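import Mathlib
import Cfsg.Agent.FastGrp
import Cfsg.Agent.Prune
set_option linter.all false

section
prune_inst 0x7ffefffbaffcbfffffff7e7ffffbdffe39d4dfffffffff4bffffebffffff23ff3fedfbaf9de4f8ffdff6e2beb0b87853fb7eefffef6bdc7ffffd5ff45ffbee5ff7ffbf8d71d7bc341ffe6ffffbf27fee7f3fffffffffffffffffffffffffffffffffffffffff

-- part: R2/M7/Geo
section
set_option linter.all false

/-!
# S5539: the maximal 2-local subgroups of the Monster (helper18, helper10, helper20)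

The 2-local geometry, abstract form.  `Pt`: the involutions of class 2B ("points"); `QQ x = O₂(C(x))`; `Ark`: the conjugates
of the elementary abelian subgroup of order `2 ^ 10`.  `kap`: the characteristic function of the elements which are neither
1 nor a point; `bet`: its polar form; `KK O v = (C(O) ∩ Q_v) O`; `Vs O s`: the points `v` of the ark `O` with `s ∈ KK O v`.

`Facts`: what the main argument (`MainC`) uses.
-/

set_option autoImplicit false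

namespace Cfsg.Agent.R2.M7

/-- the geometry -/
structure Geo (G : Type*) [Group G] where
  /-- the involutions of class 2B -/
  Pt : Set G
  /-- `O₂` of the centraliser -/
  QQ : G → Subgroup G
  /-- the arks -/
  Ark : Set (Subgroup G)

namespace Geo

variable {G : Type*} [Group G] (Γ : Geo G)

/-- the centraliser of a subgroup -/
abbrev CC (O : Subgroup G) : Subgroup G := Subgroup.centralizer (O : Set G)

/-- the characteristic function of the elements which are neither 1 nor a point -/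
noncomputable def kap (x : G) : ZMod 2 := open Classical in if x = 1 ∨ x ∈ Γ.Pt then 0 else 1

/-- the polar form of `kap` -/
noncomputable def bet (a b : G) : ZMod 2 := Γ.kap (a * b) + Γ.kap a + Γ.kap b

/-- `(C(O) ∩ Q_v) O` (a subgroup if `O` is abelian) -/
def KK (O : Subgroup G) (v : G) : Subgroup G := (CC O ⊓ Γ.QQ v) ⊔ O

/-- the points `v` of `O` with `s ∈ KK O v`, and 1 -/
def Vs (O : Subgroup G) (s : G) : Set G := {v | v = 1 ∨ (v ∈ O ∧ v ∈ Γ.Pt ∧ s ∈ Γ.KK O v)}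

/-- the conjugate of a subgroup -/
abbrev cj (g : G) (O : Subgroup G) : Subgroup G := O.map (MulAut.conj g).toMonoidHom

/-- singular subgroups -/
def Sing (F : Subgroup G) : Prop := (∀ x ∈ F, x ≠ 1 → x ∈ Γ.Pt) ∧ ∀ x ∈ F, x ≠ 1 → ∀ y ∈ F, y ∈ Γ.QQ x

/-- the basic facts -/
structure Basic : Prop where
  pt_sq : ∀ x ∈ Γ.Pt, x * x = 1
  pt_ne : ∀ x ∈ Γ.Pt, x ≠ 1
  pt_conj : ∀ x ∈ Γ.Pt, ∀ g : G, g * x * g⁻¹ ∈ Γ.Pt
  pt_trans : ∀ x ∈ Γ.Pt, ∀ y ∈ Γ.Pt, ∃ g : G, g * x * g⁻¹ = y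
  QQ_conj : ∀ x ∈ Γ.Pt, ∀ g q : G, q ∈ Γ.QQ x → g * q * g⁻¹ ∈ Γ.QQ (g * x * g⁻¹)
  QQ_comm : ∀ x ∈ Γ.Pt, ∀ q ∈ Γ.QQ x, q * x = x * q
  QQ_self : ∀ x ∈ Γ.Pt, x ∈ Γ.QQ x
  /-- `Q' = ⟨x⟩` -/
  QQ_der : ∀ x ∈ Γ.Pt, ∀ a ∈ Γ.QQ x, ∀ b ∈ Γ.QQ x, a * b * a⁻¹ * b⁻¹ = 1 ∨ a * b * a⁻¹ * b⁻¹ = x
  QQ_two : ∀ x ∈ Γ.Pt, IsPGroup 2 (Γ.QQ x)
  /-- `C(Q) ≤ Q` -/
  QQ_cent : ∀ x ∈ Γ.Pt, ∀ g : G, (∀ q ∈ Γ.QQ x, g * q = q * g) → g ∈ Γ.QQ x
  symm : ∀ x ∈ Γ.Pt, ∀ y ∈ Γ.Pt, y ∈ Γ.QQ x → x ∈ Γ.QQ y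
  line : ∀ x ∈ Γ.Pt, ∀ y ∈ Γ.Pt, x ≠ y → y ∈ Γ.QQ x → x * y ∈ Γ.Pt
  line_inf : ∀ x ∈ Γ.Pt, ∀ y ∈ Γ.Pt, x ≠ y → y ∈ Γ.QQ x → ∀ q ∈ Γ.QQ x, q ∈ Γ.QQ y → q ∈ Γ.QQ (x * y)

/-- the facts on one ark -/
structure ArkFacts : Prop where
  conj : ∀ O ∈ Γ.Ark, ∀ g : G, cj g O ∈ Γ.Ark
  comm : ∀ O ∈ Γ.Ark, ∀ a ∈ O, ∀ b ∈ O, a * b = b * a
  sq : ∀ O ∈ Γ.Ark, ∀ a ∈ O, a * a = 1
  card : ∀ O ∈ Γ.Ark, Nat.card O = 2 ^ 10
  /-- the form is bilinear -/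
  bet_mul : ∀ O ∈ Γ.Ark, ∀ a ∈ O, ∀ b ∈ O, ∀ c ∈ O, Γ.bet (a * b) c = Γ.bet a c + Γ.bet b c
  /-- the orthogonal space of a point is `O ∩ Q_v` -/
  bet_iff : ∀ O ∈ Γ.Ark, ∀ v ∈ O, v ∈ Γ.Pt → ∀ a ∈ O, (a ∈ Γ.QQ v ↔ Γ.bet a v = 0)
  bet_nondeg : ∀ O ∈ Γ.Ark, ∀ a ∈ O, a ≠ 1 → ∃ b ∈ O, Γ.bet b a = 1
  /-- totally singular subgroups -/
  ts_card : ∀ O ∈ Γ.Ark, ∀ S ≤ O, (∀ x ∈ S, x ≠ 1 → x ∈ Γ.Pt) → Nat.card S ≤ 32
  /-- a 2-group normalising `O` and not centralising it -/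
  omega : ∀ O ∈ Γ.Ark, ∀ T : Subgroup G, IsPGroup 2 T → (∀ t ∈ T, ∀ a ∈ O, t * a * t⁻¹ ∈ O) →
    (∃ t ∈ T, ∃ a ∈ O, t * a ≠ a * t) →
    ∃ v ∈ O, v ∈ Γ.Pt ∧ (∀ t ∈ T, t * v = v * t) ∧ ∀ a ∈ O, (∀ t ∈ T, t * a = a * t) → a ∈ Γ.QQ v
  /-- two points of `O` which are not collinear: the intersection -/
  opp_inf : ∀ O ∈ Γ.Ark, ∀ v ∈ O, v ∈ Γ.Pt → ∀ w ∈ O, w ∈ Γ.Pt → w ∉ Γ.QQ v →
    ∀ x ∈ CC O, x ∈ Γ.QQ v → x ∈ Γ.QQ w → x ∈ O
  /-- two points of `O` which are not collinear: the product -/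
  opp_sup : ∀ O ∈ Γ.Ark, ∀ v ∈ O, v ∈ Γ.Pt → ∀ w ∈ O, w ∈ Γ.Pt → w ∉ Γ.QQ v →
    ∀ x ∈ CC O, ∃ r ∈ CC O, r ∈ Γ.QQ v ∧ ∃ s ∈ CC O, s ∈ Γ.QQ w ∧ x = r * s
  /-- (L*) -/
  lstar : ∀ O ∈ Γ.Ark, ∀ z ∈ O, z ∈ Γ.Pt → ∀ v ∈ O, v ∈ Γ.Pt → v ∈ Γ.QQ z → v ≠ z →
    ∀ q ∈ CC O, q ∈ Γ.QQ z → ∀ r ∈ CC O, r ∈ Γ.QQ v → q * r = r * q →
    q ∈ Γ.KK O v ∨ r ∈ Γ.KK O z ∨ q * r ∈ Γ.KK O (z * v)
  /-- (K3) -/
  V_card : ∀ O ∈ Γ.Ark, ∀ z ∈ O, z ∈ Γ.Pt → ∀ s ∈ CC O, s ∈ Γ.QQ z → s * s = 1 → s ∉ O →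
    (Γ.Vs O s).ncard = 32
  /-- (K4) -/
  V_inter : ∀ O ∈ Γ.Ark, ∀ z ∈ O, z ∈ Γ.Pt → ∀ s ∈ CC O, s ∈ Γ.QQ z → s * s = 1 → s ∉ O →
    ∀ s' ∈ CC O, s' ∈ Γ.QQ z → s' * s' = 1 → s' ∉ O → s * s' = s' * s → s * s' ∉ O →
    8 ≤ (Γ.Vs O s ∩ Γ.Vs O s').ncard
  /-- the centraliser in `Q_v` of an element acting as `O` on `Q_v / v` -/
  cent_le : ∀ O ∈ Γ.Ark, ∀ v ∈ O, v ∈ Γ.Pt → ∀ t ∈ Γ.KK O v, t ∉ Γ.QQ v → ∀ x ∈ Γ.QQ v, x * t = t * x → x ∈ CC O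
  /-- such an element determines the ark -/
  unique : ∀ O ∈ Γ.Ark, ∀ O' ∈ Γ.Ark, ∀ z ∈ Γ.Pt, z ∈ O → z ∈ O' → ∀ y ∈ Γ.KK O z, y ∈ Γ.KK O' z → y ∉ Γ.QQ z → O = O'
  /-- the points `v` of `Q_z` with `y ∈ Q_v` -/
  pt_mem : ∀ O ∈ Γ.Ark, ∀ z ∈ O, z ∈ Γ.Pt → ∀ y ∈ Γ.KK O z, y ∉ Γ.QQ z → ∀ v ∈ Γ.Pt, v ∈ Γ.QQ z → y ∈ Γ.QQ v → v ∈ O

/-- type D of an involution `y ∈ C(z) ∖ Q_z` (dodecads) -/
def TypeD (z y : G) : Prop :=
  ∃ c ∈ Γ.Pt, c ∈ Γ.QQ z ∧ y ∈ Γ.QQ c ∧ (∀ g : G, g * z = z * g → g * y = y * g → g * c = c * g) ∧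
    ∀ s ∈ Γ.QQ z, s * s = 1 → s * y = y * s → s ∈ Γ.QQ c

/-- type O of an involution `y ∈ C(z) ∖ Q_z` (octads) -/
def TypeO (z y : G) : Prop := ∃ O ∈ Γ.Ark, z ∈ O ∧ y ∈ Γ.KK O z

/-- the types of the involutions of `C(z) ∖ Q_z` -/
def TypeFact : Prop := ∀ z ∈ Γ.Pt, ∀ y : G, y * z = z * y → y ∉ Γ.QQ z → y * y = 1 → Γ.TypeD z y ∨ Γ.TypeO z y

/-- the hypothesis on two arks: they contain a common singular subgroup of order 16 -/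
def Adj (O₁ O₂ X : Subgroup G) : Prop :=
  O₁ ∈ Γ.Ark ∧ O₂ ∈ Γ.Ark ∧ O₁ ≠ O₂ ∧ X ≤ O₁ ∧ X ≤ O₂ ∧ Nat.card X = 16 ∧ ∀ x ∈ X, x ≠ 1 → x ∈ Γ.Pt

/-- the facts on two arks -/
structure TwoArk : Prop where
  /-- (J1) -/
  comm : ∀ O₁ O₂ X : Subgroup G, Γ.Adj O₁ O₂ X → ∀ a ∈ O₁, ∀ b ∈ O₂, a * b = b * a
  /-- (J2) -/
  cent : ∀ O₁ O₂ X : Subgroup G, Γ.Adj O₁ O₂ X → ∀ q ∈ X, q ≠ 1 → ∀ s ∈ CC O₁, s ∈ CC O₂ →
    ∃ r ∈ Γ.QQ q, ∃ a ∈ O₁, ∃ b ∈ O₂, s = r * a * b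

/-- the facts used by the main argument -/
structure Facts : Prop where
  basic : Γ.Basic
  ark : Γ.ArkFacts
  type : Γ.TypeFact
  two : Γ.TwoArk
  /-- the squares in `Q_x` -/
  qsq : ∀ x ∈ Γ.Pt, ∀ a ∈ Γ.QQ x, a * a = 1 ∨ a * a = x

/-- the situation of the main argument: `T = O₂(H)`, `Z = Ω₁(Z(T))` -/
structure Sit (T Z : Subgroup G) : Prop where
  two : IsPGroup 2 T
  comm : ∀ x ∈ Z, ∀ t ∈ T, t * x = x * t
  ab : ∀ x ∈ Z, ∀ y ∈ Z, x * y = y * x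
  sq : ∀ x ∈ Z, x * x = 1
  all : ∀ x : G, x * x = 1 → (∀ t ∈ T, t * x = x * t) → x ∈ Z
  pt : ∃ x ∈ Z, x ∈ Γ.Pt

/-- the conclusion of the main argument -/
def MainC : Prop := ∀ T Z : Subgroup G, Γ.Sit T Z → Z ∈ Γ.Ark ∨
  ∃ F : Subgroup G, F ≠ ⊥ ∧ F ≤ Z ∧ Γ.Sing F ∧ ∀ g : G, (∀ x ∈ Z, g * x * g⁻¹ ∈ Z) → ∀ x ∈ F, g * x * g⁻¹ ∈ F

/-- the conclusion for the singular subgroups: five 2-subgroups `L i` -/
def MainB : Prop := ∃ L : Fin 5 → Subgroup G, (∀ i, L i ≠ ⊥ ∧ IsPGroup 2 (L i)) ∧ (∀ O ∈ Γ.Ark, ∃ g : G, O = cj g (L 4)) ∧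
  ∀ F : Subgroup G, F ≠ ⊥ → Γ.Sing F → ∃ i : Fin 5, ∃ g : G, ∀ x : G, (∀ a ∈ F, x * a * x⁻¹ ∈ F) →
    ∀ a ∈ cj g (L i), x * a * x⁻¹ ∈ cj g (L i)

end Geo

end Cfsg.Agent.R2.M7
end

-- part: R2/M7/Ark
section
prune_inst 0x180000000000000000000000000000000000000000000020010001002000000010040000000048100000000000000000000000000000000000000000000000000000000000000000000000000000000000000000000000000000000
set_option linter.all false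
open scoped Cfsg.Agent.FastGrp

-- part: R2/M7/Elem
section
/-!
# Elementary lemmas on orders of subgroups (helper18, S5539)
-/

set_option autoImplicit false
set_option linter.unusedSectionVars false
set_option linter.style.haveILetI false

namespace Cfsg.Agent.R2.M7.Elem

open Subgroup

variable {G : Type*} [Group G] [Finite G]

theorem card_eq_relIndex {A C : Subgroup G} (h : A ≤ C) : Nat.card C = Nat.card A * A.relIndex C := by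
  have h1 := (A.subgroupOf C).card_mul_index
  rw [Nat.card_congr (Subgroup.subgroupOfEquivOfLe h).toEquiv] at h1
  exact h1.symm

/-- `|A| |B| ≤ |C| |A ∩ B|` -/
theorem mul_le {A B C : Subgroup G} (hA : A ≤ C) (hB : B ≤ C) :
    Nat.card A * Nat.card B ≤ Nat.card C * Nat.card (A ⊓ B : Subgroup G) := by
  have h1 : Nat.card B = Nat.card (A ⊓ B : Subgroup G) * (A ⊓ B).relIndex B := card_eq_relIndex inf_le_right
  have h2 : (A ⊓ B).relIndex B = A.relIndex B := inf_relIndex_right A B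
  have h3 : Nat.card C = Nat.card A * A.relIndex C := card_eq_relIndex hA
  have h4 : A.relIndex B ≤ A.relIndex C := by
    apply relIndex_le_of_le_right hB
    intro h
    rw [h, mul_zero] at h3
    exact Nat.card_pos.ne' h3
  rw [h1, h2, h3]
  calc Nat.card A * (Nat.card (A ⊓ B : Subgroup G) * A.relIndex B)
      = Nat.card A * Nat.card (A ⊓ B : Subgroup G) * A.relIndex B := by ring
    _ ≤ Nat.card A * Nat.card (A ⊓ B : Subgroup G) * A.relIndex C := Nat.mul_le_mul_left _ h4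
    _ = _ := by ring

theorem card_le {A B : Subgroup G} (h : A ≤ B) : Nat.card A ≤ Nat.card B := card_le_of_le h

/-- a proper subgroup -/
theorem two_mul_le {A B : Subgroup G} (h : A ≤ B) (hne : ¬ B ≤ A) : 2 * Nat.card A ≤ Nat.card B := by
  have h1 := card_eq_relIndex h
  have h2 : A.relIndex B ≠ 1 := fun h => hne (relIndex_eq_one.1 h)
  have h3 : A.relIndex B ≠ 0 := by
    intro h
    rw [h, mul_zero] at h1
    exact Nat.card_pos.ne' h1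
  rw [h1, mul_comm]
  apply Nat.mul_le_mul_left
  omega

theorem two_mul_le' {A B : Subgroup G} (h : A ≤ B) {x : G} (hx : x ∈ B) (hxA : x ∉ A) : 2 * Nat.card A ≤ Nat.card B :=
  two_mul_le h fun h' => hxA (h' hx)

/-- index at most 2 -/
theorem le_two {S R : Subgroup G} (h : ∀ a ∈ S, ∀ b ∈ S, a ∉ R → b ∉ R → a⁻¹ * b ∈ R) :
    Nat.card S ≤ 2 * Nat.card (S ⊓ R : Subgroup G) := by
  classical
  by_cases hS : S ≤ R
  · rw [inf_eq_left.2 hS]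
    omega
  · obtain ⟨a, ha, haR⟩ := Set.not_subset.1 hS
    have h1 : Nat.card S ≤ Nat.card ((S ⊓ R : Subgroup G) ⊕ (S ⊓ R : Subgroup G)) := by
      apply Nat.card_le_card_of_injective
        (fun s : S => if hs : (s : G) ∈ R then Sum.inl ⟨s, s.2, hs⟩
          else Sum.inr ⟨a⁻¹ * s, S.mul_mem (S.inv_mem ha) s.2, h a ha s s.2 haR hs⟩)
      intro s t hst
      by_cases hs : (s : G) ∈ R <;> by_cases ht : (t : G) ∈ R <;> simp only [hs, ht, dif_pos, dif_neg, not_false_eq_true] at hst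
      · have := congrArg Subtype.val (Sum.inl.inj hst)
        exact Subtype.ext this
      · exact absurd hst (by simp)
      · exact absurd hst (by simp)
      · have := congrArg Subtype.val (Sum.inr.inj hst)
        exact Subtype.ext (mul_left_cancel this)
    rw [Nat.card_sum] at h1
    omega

/-- the converse of `le_two` -/
theorem mem_of_le_two {S R : Subgroup G} (hRS : R ≤ S) (h : Nat.card S ≤ 2 * Nat.card R) {a b : G} (ha : a ∈ S)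
    (hb : b ∈ S) (haR : a ∉ R) (hbR : b ∉ R) : a⁻¹ * b ∈ R := by
  have h1 := card_eq_relIndex hRS
  have hpos : 0 < Nat.card R := Nat.card_pos
  have h2 : R.relIndex S ≤ 2 := by
    rw [h1, mul_comm] at h
    exact Nat.le_of_mul_le_mul_right h hpos
  have h3 : R.relIndex S ≠ 1 := fun h => haR (relIndex_eq_one.1 h ha)
  have h4 : R.relIndex S ≠ 0 := by
    intro h
    rw [h, mul_zero] at h1
    exact Nat.card_pos.ne' h1
  have h5 : (R.subgroupOf S).index = 2 := by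
    show R.relIndex S = 2
    omega
  have h6 := mul_mem_iff_of_index_two h5 (a := (⟨a, ha⟩ : S)⁻¹) (b := ⟨b, hb⟩)
  rw [inv_mem_iff] at h6
  simp only [mem_subgroupOf, coe_mul, coe_inv] at h6
  rw [h6]
  (clear * - haR hbR; tauto)

theorem exists_ne_one {E : Subgroup G} (h : 1 < Nat.card E) : ∃ x ∈ E, x ≠ 1 := by
  by_contra hcon
  push Not at hcon
  have : E = ⊥ := (Subgroup.eq_bot_iff_forall E).2 hcon
  rw [this, Subgroup.card_bot] at h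
  omega

/-- the action by conjugation -/
@[reducible] def act {T E : Subgroup G} (hinv : ∀ t ∈ T, ∀ a ∈ E, t * a * t⁻¹ ∈ E) : MulAction T E where
  smul t a := ⟨t * a * (t : G)⁻¹, hinv t t.2 a a.2⟩
  one_smul a := Subtype.ext (by show (1 : G) * a * (1 : G)⁻¹ = a; group)
  mul_smul s t a := Subtype.ext (by
    show (s : G) * t * a * ((s : G) * t)⁻¹ = s * (t * a * (t : G)⁻¹) * (s : G)⁻¹
    group)

/-- a 2-group acting on a nontrivial elementary abelian 2-group has a nontrivial fixed point -/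
theorem fixed {T E : Subgroup G} (hT : IsPGroup 2 T) (hE : ∀ a ∈ E, a * a = 1) {e : G} (he : e ∈ E) (hne : e ≠ 1)
    (hinv : ∀ t ∈ T, ∀ a ∈ E, t * a * t⁻¹ ∈ E) : ∃ x ∈ E, x ≠ 1 ∧ ∀ t ∈ T, t * x = x * t := by
  letI := act hinv
  have hd : 2 ∣ Nat.card E := by
    have h1 : orderOf (⟨e, he⟩ : E) = 2 := by
      apply orderOf_eq_prime
      · rw [pow_two]
        exact Subtype.ext (hE e he)
      · intro h
        exact hne (congrArg Subtype.val h)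
    rw [← h1]
    exact orderOf_dvd_natCard _
  have h1 : (1 : E) ∈ MulAction.fixedPoints T E := by
    intro t
    apply Subtype.ext
    show (t : G) * 1 * (t : G)⁻¹ = 1
    group
  obtain ⟨b, hb, hb1⟩ := hT.exists_fixed_point_of_prime_dvd_card_of_fixed_point E hd h1
  refine ⟨b, b.2, ?_, ?_⟩
  · intro h
    exact hb1 (Subtype.ext h.symm)
  · intro t ht
    have h2 := congrArg Subtype.val (hb ⟨t, ht⟩)
    have h3 : t * (b : G) * t⁻¹ = b := h2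
    calc t * (b : G) = t * b * t⁻¹ * t := by group
      _ = b * t := by rw [h3]

/-- `⟨D, x⟩` for an involution `x` centralising `D` -/
theorem exists_adj {D : Subgroup G} {x : G} (hx : x * x = 1) (hc : ∀ a ∈ D, x * a = a * x) :
    ∃ D' : Subgroup G, (∀ a, a ∈ D' ↔ a ∈ D ∨ x * a ∈ D) ∧ D ≤ D' ∧ x ∈ D' ∧ Nat.card D' ≤ 2 * Nat.card D ∧
      (x ∉ D → 2 * Nat.card D ≤ Nat.card D') := by
  have hcx : ∀ a, x * a ∈ D → x * a = a * x := by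
    intro a ha
    have h1 := hc _ ha
    calc x * a = x * a * (x * x) := by rw [hx, mul_one]
      _ = (x * a * x) * x := by group
      _ = (x * (x * a)) * x := by rw [h1]
      _ = ((x * x) * a) * x := by group
      _ = a * x := by rw [hx, one_mul]
  let D' : Subgroup G := {
    carrier := {a | a ∈ D ∨ x * a ∈ D}
    one_mem' := Or.inl D.one_mem
    mul_mem' := by
      rintro a b (ha | ha) (hb | hb)
      · exact Or.inl (D.mul_mem ha hb)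
      · right
        have h1 : x * (a * b) = a * (x * b) := by
          rw [← mul_assoc, hc a ha, mul_assoc]
        rw [h1]
        exact D.mul_mem ha hb
      · right
        rw [← mul_assoc]
        exact D.mul_mem ha hb
      · left
        have h1 : a * b = (x * a) * (x * b) := by
          calc a * b = a * (x * x) * b := by rw [hx, mul_one]
            _ = (a * x) * (x * b) := by group
            _ = (x * a) * (x * b) := by rw [hcx a ha]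
        rw [h1]
        exact D.mul_mem ha hb
    inv_mem' := by
      rintro a (ha | ha)
      · exact Or.inl (D.inv_mem ha)
      · right
        have h1 : x * a⁻¹ = (x * a)⁻¹ := by
          rw [hcx a ha, mul_inv_rev]
          congr 1
          exact (inv_eq_of_mul_eq_one_right hx).symm
        rw [h1]
        exact D.inv_mem ha }
  have hle : D ≤ D' := fun a ha => Or.inl ha
  have hxD : x ∈ D' := Or.inr (by rw [hx]; exact D.one_mem)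
  refine ⟨D', fun a => Iff.rfl, hle, hxD, ?_, ?_⟩
  · have h1 : Nat.card D' ≤ 2 * Nat.card (D' ⊓ D : Subgroup G) := by
      apply le_two
      intro a ha b hb haD hbD
      have ha' : x * a ∈ D := ha.resolve_left haD
      have hb' : x * b ∈ D := hb.resolve_left hbD
      have h1 : a⁻¹ * b = (x * a)⁻¹ * (x * b) := by
        rw [mul_inv_rev]
        group
      rw [h1]
      exact D.mul_mem (D.inv_mem ha') hb'
    rwa [inf_eq_right.2 hle] at h1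
  · intro h
    exact two_mul_le' hle hxD h

/-- a subgroup covered by three subgroups, one of index at least 4 -/
theorem cover {S A B C : Subgroup G} (h : ∀ x ∈ S, x ∈ A ∨ x ∈ B ∨ x ∈ C)
    (hC : 4 * Nat.card (S ⊓ C : Subgroup G) ≤ Nat.card S) : S ≤ A ∨ S ≤ B := by
  by_contra hcon
  push Not at hcon
  obtain ⟨hA, hB⟩ := hcon
  have hA' : 2 * Nat.card (S ⊓ A : Subgroup G) ≤ Nat.card S :=
    two_mul_le inf_le_left fun h => hA (h.trans inf_le_right)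
  have hB' : 2 * Nat.card (S ⊓ B : Subgroup G) ≤ Nat.card S :=
    two_mul_le inf_le_left fun h => hB (h.trans inf_le_right)
  have hAB : Nat.card (S ⊓ A : Subgroup G) * Nat.card (S ⊓ B : Subgroup G) ≤
      Nat.card S * Nat.card ((S ⊓ A) ⊓ (S ⊓ B) : Subgroup G) := mul_le inf_le_left inf_le_left
  have e1 : ∀ K : Subgroup G, Nat.card K = (K : Set G).ncard := fun K => rfl
  have h1 := Set.ncard_union_add_ncard_inter ((S ⊓ A : Subgroup G) : Set G) ((S ⊓ B : Subgroup G) : Set G)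
    (Set.toFinite _) (Set.toFinite _)
  have h2 := Set.ncard_union_add_ncard_inter (((S ⊓ A : Subgroup G) : Set G) ∪ ((S ⊓ B : Subgroup G) : Set G))
    ((S ⊓ C : Subgroup G) : Set G) (Set.toFinite _) (Set.toFinite _)
  have h3 : (S : Set G).ncard ≤ ((((S ⊓ A : Subgroup G) : Set G) ∪ ((S ⊓ B : Subgroup G) : Set G)) ∪
      ((S ⊓ C : Subgroup G) : Set G)).ncard := by
    apply Set.ncard_le_ncard _ (Set.toFinite _)
    intro x hx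
    rcases h x hx with h | h | h
    · exact Or.inl (Or.inl ⟨hx, h⟩)
    · exact Or.inl (Or.inr ⟨hx, h⟩)
    · exact Or.inr ⟨hx, h⟩
  have h4 : 0 < ((((S ⊓ A : Subgroup G) : Set G) ∪ ((S ⊓ B : Subgroup G) : Set G)) ∩
      ((S ⊓ C : Subgroup G) : Set G)).ncard := by
    rw [Set.ncard_pos (Set.toFinite _)]
    exact ⟨1, Or.inl (Subgroup.one_mem _), Subgroup.one_mem _⟩
  have h5 : ((S ⊓ A : Subgroup G) : Set G) ∩ ((S ⊓ B : Subgroup G) : Set G) = ((S ⊓ A ⊓ (S ⊓ B) : Subgroup G) : Set G) :=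
    rfl
  rw [h5] at h1
  rw [e1] at hA' hB' hC
  rw [e1, e1, e1, e1] at hAB
  rw [e1] at hA' hB' hC
  generalize (S : Set G).ncard = n at *
  generalize ((S ⊓ A : Subgroup G) : Set G).ncard = a at *
  generalize ((S ⊓ B : Subgroup G) : Set G).ncard = b at *
  generalize ((S ⊓ A ⊓ (S ⊓ B) : Subgroup G) : Set G).ncard = c at *
  generalize ((S ⊓ C : Subgroup G) : Set G).ncard = d at *
  generalize (((S ⊓ A : Subgroup G) : Set G) ∪ ((S ⊓ B : Subgroup G) : Set G)).ncard = u at *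
  generalize ((((S ⊓ A : Subgroup G) : Set G) ∪ ((S ⊓ B : Subgroup G) : Set G)) ∩ ((S ⊓ C : Subgroup G) : Set G)).ncard = v at *
  generalize ((((S ⊓ A : Subgroup G) : Set G) ∪ ((S ⊓ B : Subgroup G) : Set G)) ∪ ((S ⊓ C : Subgroup G) : Set G)).ncard = w at *
  -- n ≤ w = u + d - v, u = a + b - c, a b ≤ n c
  have hn : 0 < n := by omega
  have k1 : n + c + 1 ≤ a + b + d := by omega
  have k2 : 4 * n + 4 * c + 4 ≤ 4 * a + 4 * b + n := by omega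
  zify at *
  nlinarith only [hA', hB', hAB, hC, h1, h4, h3, h2, mul_nonneg (sub_nonneg.2 hA') (sub_nonneg.2 hB')]

omit [Finite G] in
theorem mem_sup {A B : Subgroup G} (h : ∀ a ∈ A, ∀ b ∈ B, a * b = b * a) {x : G} (hx : x ∈ A ⊔ B) :
    ∃ a ∈ A, ∃ b ∈ B, x = a * b := by
  let K : Subgroup G := {
    carrier := {x | ∃ a ∈ A, ∃ b ∈ B, x = a * b}
    one_mem' := ⟨1, A.one_mem, 1, B.one_mem, (one_mul 1).symm⟩
    mul_mem' := by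
      rintro _ _ ⟨a, ha, b, hb, rfl⟩ ⟨c, hc, d, hd, rfl⟩
      refine ⟨a * c, A.mul_mem ha hc, b * d, B.mul_mem hb hd, ?_⟩
      calc a * b * (c * d) = a * (b * c) * d := by group
        _ = a * (c * b) * d := by rw [h c hc b hb]
        _ = _ := by group
    inv_mem' := by
      rintro _ ⟨a, ha, b, hb, rfl⟩
      refine ⟨a⁻¹, A.inv_mem ha, b⁻¹, B.inv_mem hb, ?_⟩
      rw [mul_inv_rev, h a⁻¹ (A.inv_mem ha) b⁻¹ (B.inv_mem hb)] }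
  have h1 : A ⊔ B ≤ K := by
    apply sup_le
    · intro a ha
      exact ⟨a, ha, 1, B.one_mem, (mul_one a).symm⟩
    · intro b hb
      exact ⟨1, A.one_mem, b, hb, (one_mul b).symm⟩
  exact h1 hx

/-- a group of order 4 -/
theorem four_elts {E : Subgroup G} (hc : Nat.card E ≤ 4) {a b : G} (ha : a ∈ E) (hb : b ∈ E) (ha1 : a ≠ 1)
    (hb1 : b ≠ 1) (hab : a ≠ b) (hab1 : a * b ≠ 1) : ∀ x ∈ E, x = 1 ∨ x = a ∨ x = b ∨ x = a * b := by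
  classical
  intro x hx
  by_contra hcon
  push Not at hcon
  obtain ⟨h1, h2, h3, h4⟩ := hcon
  have h5 : ({1, a, b, a * b, x} : Finset G).card = 5 := by
    rw [Finset.card_insert_of_notMem, Finset.card_insert_of_notMem, Finset.card_insert_of_notMem,
      Finset.card_insert_of_notMem, Finset.card_singleton]
    · simp only [Finset.mem_singleton]
      exact fun h => h4 h.symm
    · simp only [Finset.mem_insert, Finset.mem_singleton, not_or]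
      refine ⟨fun h => ha1 ?_, fun h => h3 h.symm⟩
      exact mul_right_cancel (b := b) (by rw [one_mul]; exact h.symm)
    · simp only [Finset.mem_insert, Finset.mem_singleton, not_or]
      refine ⟨hab, fun h => hb1 ?_, fun h => h2 h.symm⟩
      exact mul_left_cancel (a := a) (by rw [mul_one]; exact h.symm)
    · simp only [Finset.mem_insert, Finset.mem_singleton, not_or]
      exact ⟨fun h => ha1 h.symm, fun h => hb1 h.symm, fun h => hab1 h.symm, fun h => h1 h.symm⟩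
  have h6 : (({1, a, b, a * b, x} : Finset G) : Set G) ⊆ (E : Set G) := by
    intro w hw
    simp only [Finset.coe_insert, Finset.coe_singleton, Set.mem_insert_iff, Set.mem_singleton_iff] at hw
    rcases hw with rfl | rfl | rfl | rfl | rfl
    · exact E.one_mem
    · exact ha
    · exact hb
    · exact E.mul_mem ha hb
    · exact hx
  have h7 := Set.ncard_le_ncard h6 (Set.toFinite _)
  rw [Set.ncard_coe_finset, h5] at h7
  have h8 : Nat.card E = (E : Set G).ncard := rfl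
  omega

end Cfsg.Agent.R2.M7.Elem
end

-- part: R2/M7/Ark
section
/-!
# The elementary theory of one ark (helper18, S5539)
-/

set_option autoImplicit false
set_option linter.unusedSectionVars false

namespace Cfsg.Agent.R2.M7.Ark

open Geo Elem

variable {G : Type*} [Group G] {Γ : Geo G}

theorem mem_CC {O : Subgroup G} {x : G} : x ∈ CC O ↔ ∀ a ∈ O, a * x = x * a :=
  Subgroup.mem_centralizer_iff

theorem mem_cj {g x : G} {O : Subgroup G} : x ∈ cj g O ↔ g⁻¹ * x * g ∈ O := by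
  show x ∈ O.map (MulAut.conj g).toMonoidHom ↔ _
  rw [Subgroup.mem_map]
  constructor
  · rintro ⟨a, ha, rfl⟩
    have h : g⁻¹ * ((MulAut.conj g).toMonoidHom a) * g = a := by
      show g⁻¹ * (g * a * g⁻¹) * g = a
      group
    rwa [h]
  · intro h
    refine ⟨_, h, ?_⟩
    show g * (g⁻¹ * x * g) * g⁻¹ = x
    group

theorem conj_mem_cj {g x : G} {O : Subgroup G} : g * x * g⁻¹ ∈ cj g O ↔ x ∈ O := by
  rw [mem_cj]
  have e : g⁻¹ * (g * x * g⁻¹) * g = x := by group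
  rw [e]

theorem conj_mem_CC {g x : G} {O : Subgroup G} (hx : x ∈ CC O) : g * x * g⁻¹ ∈ CC (cj g O) := by
  rw [mem_CC] at hx ⊢
  intro a ha
  rw [mem_cj] at ha
  have h := hx _ ha
  calc a * (g * x * g⁻¹) = g * ((g⁻¹ * a * g) * x) * g⁻¹ := by group
    _ = g * (x * (g⁻¹ * a * g)) * g⁻¹ := by rw [h]
    _ = _ := by group

/-! ### `kap` and `bet` -/

section Form

theorem kap_eq_zero {x : G} : Γ.kap x = 0 ↔ x = 1 ∨ x ∈ Γ.Pt := by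
  classical
  unfold Geo.kap
  split_ifs with h
  · simp [h]
  · simp only [one_ne_zero, false_iff]
    exact h

theorem kap_one : Γ.kap (1 : G) = 0 := kap_eq_zero.2 (Or.inl rfl)

theorem kap_pt {x : G} (hx : x ∈ Γ.Pt) : Γ.kap x = 0 := kap_eq_zero.2 (Or.inr hx)

theorem two_cases (a : ZMod 2) : a = 0 ∨ a = 1 := by
  revert a; decide

theorem add_self (a : ZMod 2) : a + a = 0 := by
  revert a; decide

theorem one_one : (1 : ZMod 2) + 1 = 0 := by decide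

theorem bet_comm {a b : G} (h : a * b = b * a) : Γ.bet a b = Γ.bet b a := by
  unfold Geo.bet
  rw [h]; ring

theorem bet_one_left (c : G) : Γ.bet 1 c = 0 := by
  unfold Geo.bet
  rw [one_mul, kap_one, add_zero, add_self]

end Form

section Bas

variable (B : Γ.Basic)
include B

theorem conj_pt {x : G} (g : G) : g * x * g⁻¹ ∈ Γ.Pt ↔ x ∈ Γ.Pt := by
  constructor
  · intro h
    have h1 := B.pt_conj _ h g⁻¹
    have e : g⁻¹ * (g * x * g⁻¹) * g⁻¹⁻¹ = x := by group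
    rwa [e] at h1
  · exact fun h => B.pt_conj x h g

theorem kap_conj (x g : G) : Γ.kap (g * x * g⁻¹) = Γ.kap x := by
  have h : Γ.kap (g * x * g⁻¹) = 0 ↔ Γ.kap x = 0 := by
    rw [kap_eq_zero, kap_eq_zero, conj_pt B]
    have h1 : g * x * g⁻¹ = 1 ↔ x = 1 := by
      constructor
      · intro h
        calc x = g⁻¹ * (g * x * g⁻¹) * g := by group
          _ = 1 := by rw [h]; group
      · rintro rfl; group
    rw [h1]
  rcases two_cases (Γ.kap (g * x * g⁻¹)) with h1 | h1 <;> rcases two_cases (Γ.kap x) with h2 | h2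
  · rw [h1, h2]
  · rw [h.1 h1] at h2; exact absurd h2 (by decide)
  · rw [h.2 h2] at h1; exact absurd h1 (by decide)
  · rw [h1, h2]

theorem bet_conj (x y g : G) : Γ.bet (g * x * g⁻¹) (g * y * g⁻¹) = Γ.bet x y := by
  unfold Geo.bet
  have e : g * x * g⁻¹ * (g * y * g⁻¹) = g * (x * y) * g⁻¹ := by group
  rw [e, kap_conj B, kap_conj B, kap_conj B]

/-- elements commuting with `x` normalise `QQ x` -/
theorem QQ_norm {x : G} (hx : x ∈ Γ.Pt) {g : G} (hg : g * x = x * g) {q : G} (hq : q ∈ Γ.QQ x) :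
    g * q * g⁻¹ ∈ Γ.QQ x := by
  have h := B.QQ_conj x hx g q hq
  have e : g * x * g⁻¹ = x := by rw [hg]; group
  rwa [e] at h

/-- conjugation of `KK` -/
theorem KK_conj {O : Subgroup G} {v : G} (hv : v ∈ Γ.Pt) (g : G) {x : G} (hx : x ∈ Γ.KK O v) :
    g * x * g⁻¹ ∈ Γ.KK (cj g O) (g * v * g⁻¹) := by
  have h : Γ.KK O v ≤ (Γ.KK (cj g O) (g * v * g⁻¹)).comap (MulAut.conj g).toMonoidHom := by
    unfold Geo.KK
    apply sup_le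
    · intro a ha
      show g * a * g⁻¹ ∈ CC (cj g O) ⊓ Γ.QQ (g * v * g⁻¹) ⊔ cj g O
      exact Subgroup.mem_sup_left ⟨conj_mem_CC ha.1, B.QQ_conj v hv g a ha.2⟩
    · intro a ha
      show g * a * g⁻¹ ∈ CC (cj g O) ⊓ Γ.QQ (g * v * g⁻¹) ⊔ cj g O
      exact Subgroup.mem_sup_right (conj_mem_cj.2 ha)
  exact h hx

theorem line_mem {v w : G} (hv : v ∈ Γ.Pt) (hw : w ∈ Γ.Pt) (h : w ∈ Γ.QQ v) : v * w = 1 ∨ v * w ∈ Γ.Pt := by
  by_cases hvw : v = w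
  · left; rw [hvw]; exact B.pt_sq w hw
  · right; exact B.line v hv w hw hvw h

theorem sing_mul {v w : G} (hv : v ∈ Γ.Pt) (hw : w ∈ Γ.Pt) (h : w ∈ Γ.QQ v) {q : G} (hq : q ∈ Γ.QQ v)
    (hq' : q ∈ Γ.QQ w) (hne : v * w ≠ 1) : q ∈ Γ.QQ (v * w) := by
  apply B.line_inf v hv w hw _ h q hq hq'
  rintro rfl
  exact hne (B.pt_sq v hv)

end Bas

/-! ### An ark -/

section One

variable (B : Γ.Basic) (A : Γ.ArkFacts) {O : Subgroup G} (hO : O ∈ Γ.Ark)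
include A hO

theorem O_le_CC : O ≤ CC O := fun a ha => mem_CC.2 fun b hb => A.comm O hO b hb a ha

theorem inv_eq {a : G} (ha : a ∈ O) : a⁻¹ = a := inv_eq_of_mul_eq_one_right (A.sq O hO a ha)

theorem bet_symm {a b : G} (ha : a ∈ O) (hb : b ∈ O) : Γ.bet a b = Γ.bet b a := bet_comm (A.comm O hO a ha b hb)

theorem bet_mul_right {a b c : G} (ha : a ∈ O) (hb : b ∈ O) (hc : c ∈ O) :
    Γ.bet a (b * c) = Γ.bet a b + Γ.bet a c := by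
  rw [bet_symm A hO ha (O.mul_mem hb hc), A.bet_mul O hO b hb c hc a ha, bet_symm A hO hb ha, bet_symm A hO hc ha]

theorem not_mem_QQ {v a : G} (hv : v ∈ O) (hv' : v ∈ Γ.Pt) (ha : a ∈ O) : a ∉ Γ.QQ v ↔ Γ.bet a v = 1 := by
  rw [A.bet_iff O hO v hv hv' a ha]
  rcases two_cases (Γ.bet a v) with h | h <;> simp only [h, _root_.not_true_eq_false, _root_.zero_ne_one, _root_.one_ne_zero, _root_.not_false_eq_true]

/-- the product of two elements outside `QQ v` -/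
theorem mul_mem_QQ {v a b : G} (hv : v ∈ O) (hv' : v ∈ Γ.Pt) (ha : a ∈ O) (hb : b ∈ O) (h : a ∉ Γ.QQ v) (h' : b ∉ Γ.QQ v) :
    a * b ∈ Γ.QQ v := by
  rw [not_mem_QQ A hO hv hv' ha] at h
  rw [not_mem_QQ A hO hv hv' hb] at h'
  rw [A.bet_iff O hO v hv hv' _ (O.mul_mem ha hb), A.bet_mul O hO a ha b hb v hv, h, h', one_one]

omit A hO in
theorem mem_KK {v x : G} : x ∈ Γ.KK O v → ∃ r ∈ CC O, r ∈ Γ.QQ v ∧ ∃ w ∈ O, x = r * w := by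
  let K : Subgroup G := {
    carrier := {x | ∃ r ∈ CC O, r ∈ Γ.QQ v ∧ ∃ w ∈ O, x = r * w}
    one_mem' := ⟨1, Subgroup.one_mem _, Subgroup.one_mem _, 1, Subgroup.one_mem _, by group⟩
    mul_mem' := by
      rintro _ _ ⟨r, hr, hr', w, hw, rfl⟩ ⟨s, hs, hs', u, hu, rfl⟩
      refine ⟨r * s, Subgroup.mul_mem _ hr hs, Subgroup.mul_mem _ hr' hs', w * u, Subgroup.mul_mem _ hw hu, ?_⟩
      have h1 := mem_CC.1 hs w hw
      calc r * w * (s * u) = r * (w * s) * u := by group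
        _ = r * (s * w) * u := by rw [h1]
        _ = _ := by group
    inv_mem' := by
      rintro _ ⟨r, hr, hr', w, hw, rfl⟩
      refine ⟨r⁻¹, Subgroup.inv_mem _ hr, Subgroup.inv_mem _ hr', w⁻¹, Subgroup.inv_mem _ hw, ?_⟩
      have h1 := mem_CC.1 (Subgroup.inv_mem _ hr) _ (Subgroup.inv_mem _ hw)
      rw [mul_inv_rev, h1] }
  have h : Γ.KK O v ≤ K := by
    unfold Geo.KK
    apply sup_le
    · intro a ha
      exact ⟨a, ha.1, ha.2, 1, Subgroup.one_mem _, (mul_one a).symm⟩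
    · intro a ha
      exact ⟨1, Subgroup.one_mem _, Subgroup.one_mem _, a, ha, (one_mul a).symm⟩
  exact fun hx => h hx

omit A hO in
theorem KK_of {v r w : G} (hr : r ∈ CC O) (hr' : r ∈ Γ.QQ v) (hw : w ∈ O) : r * w ∈ Γ.KK O v :=
  Subgroup.mul_mem_sup ⟨hr, hr'⟩ hw

omit A hO in
theorem KK_of' {v r : G} (hr : r ∈ CC O) (hr' : r ∈ Γ.QQ v) : r ∈ Γ.KK O v := Subgroup.mem_sup_left ⟨hr, hr'⟩

omit A hO in
theorem O_le_KK {v : G} : O ≤ Γ.KK O v := le_sup_right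

theorem KK_le_CC {v : G} : Γ.KK O v ≤ CC O := sup_le inf_le_left (O_le_CC A hO)

theorem CC_comm {x a : G} (hx : x ∈ CC O) (ha : a ∈ O) : x * a = a * x := (mem_CC.1 hx a ha).symm

/-- the decomposition of an involution of `KK O v` -/
theorem KK_inv {v x : G} (hx : x ∈ Γ.KK O v) (h2 : x * x = 1) :
    ∃ r ∈ CC O, r ∈ Γ.QQ v ∧ r * r = 1 ∧ ∃ w ∈ O, x = r * w := by
  obtain ⟨r, hr, hr', w, hw, rfl⟩ := mem_KK hx
  refine ⟨r, hr, hr', ?_, w, hw, rfl⟩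
  have h1 := CC_comm A hO hr hw
  calc r * r = r * r * (w * w) := by rw [A.sq O hO w hw, mul_one]
    _ = r * (r * w) * w := by group
    _ = r * (w * r) * w := by rw [h1]
    _ = (r * w) * (r * w) := by group
    _ = 1 := h2

/-- a vector separating two vectors -/
theorem exists_sep {v w : G} (hv : v ∈ O) (hw : w ∈ O) (hv1 : v ≠ 1) (hvw : v ≠ w) :
    ∃ t ∈ O, Γ.bet t w = 0 ∧ Γ.bet t v = 1 := by
  obtain ⟨b, hb, hbv⟩ := A.bet_nondeg O hO v hv hv1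
  have hvw1 : v * w ≠ 1 := by
    intro h
    apply hvw
    rw [← inv_eq A hO hw]
    exact eq_inv_of_mul_eq_one_left h
  obtain ⟨c, hc, hcv⟩ := A.bet_nondeg O hO (v * w) (O.mul_mem hv hw) hvw1
  rw [bet_mul_right A hO hc hv hw] at hcv
  rcases two_cases (Γ.bet b w) with h1 | h1
  · exact ⟨b, hb, h1, hbv⟩
  · rcases two_cases (Γ.bet c w) with h2 | h2
    · rw [h2, add_zero] at hcv
      exact ⟨c, hc, h2, hcv⟩
    · have h3 : Γ.bet c v = 0 := by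
        rw [h2] at hcv
        generalize Γ.bet c v = a at hcv
        revert a; decide
      refine ⟨b * c, O.mul_mem hb hc, ?_, ?_⟩
      · rw [A.bet_mul O hO b hb c hc w hw, h1, h2, one_one]
      · rw [A.bet_mul O hO b hb c hc v hv, hbv, h3, add_zero]

/-- `O = (O ∩ QQ v) (O ∩ QQ w)` -/
theorem exists_split {v w u : G} (hv : v ∈ O) (hw : w ∈ O) (hv' : v ∈ Γ.Pt) (hw' : w ∈ Γ.Pt) (hv1 : v ≠ 1)
    (hvw : v ≠ w) (hu : u ∈ O) :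
    ∃ u₁ ∈ O, u₁ ∈ Γ.QQ v ∧ ∃ u₂ ∈ O, u₂ ∈ Γ.QQ w ∧ u = u₁ * u₂ := by
  by_cases h : u ∈ Γ.QQ v
  · exact ⟨u, hu, h, 1, O.one_mem, Subgroup.one_mem _, (mul_one u).symm⟩
  · obtain ⟨t, ht, htw, htv⟩ := exists_sep A hO hv hw hv1 hvw
    refine ⟨u * t, O.mul_mem hu ht, ?_, t, ht, ?_, ?_⟩
    · exact mul_mem_QQ A hO hv hv' hu ht h ((not_mem_QQ A hO hv hv' ht).2 htv)
    · exact (A.bet_iff O hO w hw hw' t ht).2 htw
    · rw [mul_assoc, A.sq O hO t ht, mul_one]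

include B in
/-- the strong form of (a6) -/
theorem KK_inf {v w x : G} (hv : v ∈ O) (hw : w ∈ O) (hv' : v ∈ Γ.Pt) (hw' : w ∈ Γ.Pt) (hvw : v ≠ w)
    (hx : x ∈ Γ.KK O v) (hx' : x ∈ Γ.KK O w) :
    ∃ r ∈ CC O, r ∈ Γ.QQ v ∧ r ∈ Γ.QQ w ∧ ∃ t ∈ O, x = r * t := by
  obtain ⟨r₁, hr₁, hr₁', w₁, hw₁, rfl⟩ := mem_KK hx
  obtain ⟨r₂, hr₂, hr₂', w₂, hw₂, h⟩ := mem_KK hx'
  obtain ⟨u₁, hu₁, hu₁', u₂, hu₂, hu₂', hu⟩ := exists_split A hO hv hw hv' hw' (B.pt_ne v hv') hvw (O.mul_mem hw₂ hw₁)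
  have h1 : r₁ * u₁⁻¹ = r₂ * u₂ := by
    have e1 : r₁ = r₂ * (w₂ * w₁) := by
      calc r₁ = r₁ * (w₁ * w₁) := by rw [A.sq O hO w₁ hw₁, mul_one]
        _ = (r₁ * w₁) * w₁ := by group
        _ = (r₂ * w₂) * w₁ := by rw [h]
        _ = _ := by group
    rw [e1, hu, A.comm O hO u₁ hu₁ u₂ hu₂]
    group
  refine ⟨r₁ * u₁⁻¹, Subgroup.mul_mem _ hr₁ (O_le_CC A hO (O.inv_mem hu₁)),
    Subgroup.mul_mem _ hr₁' (Subgroup.inv_mem _ hu₁'), ?_, u₁ * w₁, O.mul_mem hu₁ hw₁, by group⟩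
  rw [h1]
  exact Subgroup.mul_mem _ hr₂' hu₂'

include B in
/-- (a5) -/
theorem KK_opp {v w x : G} (hv : v ∈ O) (hw : w ∈ O) (hv' : v ∈ Γ.Pt) (hw' : w ∈ Γ.Pt) (hvw : w ∉ Γ.QQ v)
    (hx : x ∈ Γ.KK O v) (hx' : x ∈ Γ.KK O w) : x ∈ O := by
  have hne : v ≠ w := by
    rintro rfl
    exact hvw (B.QQ_self v hv')
  obtain ⟨r, hr, h1, h2, t, ht, rfl⟩ := KK_inf B A hO hv hw hv' hw' hne hx hx'
  exact O.mul_mem (A.opp_inf O hO v hv hv' w hw hw' hvw r hr h1 h2) ht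

include B in
theorem coll_of_KK {v w x : G} (hv : v ∈ O) (hw : w ∈ O) (hv' : v ∈ Γ.Pt) (hw' : w ∈ Γ.Pt)
    (hx : x ∈ Γ.KK O v) (hx' : x ∈ Γ.KK O w) (hxO : x ∉ O) : w ∈ Γ.QQ v := by
  by_contra h
  exact hxO (KK_opp B A hO hv hw hv' hw' h hx hx')

include B in
/-- (a6) -/
theorem KK_mul {v w x : G} (hv : v ∈ O) (hw : w ∈ O) (hv' : v ∈ Γ.Pt) (hw' : w ∈ Γ.Pt) (hvw : v ≠ w)
    (hc : w ∈ Γ.QQ v) (hx : x ∈ Γ.KK O v) (hx' : x ∈ Γ.KK O w) : x ∈ Γ.KK O (v * w) := by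
  obtain ⟨r, hr, h1, h2, t, ht, rfl⟩ := KK_inf B A hO hv hw hv' hw' hvw hx hx'
  exact KK_of hr (B.line_inf v hv' w hw' hvw hc r h1 h2) ht

/-- two elements of `KK O v ∖ QQ v` -/
theorem KK_two {v a b : G} (hv : v ∈ O) (hv' : v ∈ Γ.Pt) (ha : a ∈ Γ.KK O v) (hb : b ∈ Γ.KK O v) (ha' : a ∉ Γ.QQ v)
    (hb' : b ∉ Γ.QQ v) : a⁻¹ * b ∈ Γ.QQ v := by
  obtain ⟨r, hr, hr', w, hw, rfl⟩ := mem_KK ha
  obtain ⟨s, hs, hs', u, hu, rfl⟩ := mem_KK hb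
  have h1 : w ∉ Γ.QQ v := fun h => ha' (Subgroup.mul_mem _ hr' h)
  have h2 : u ∉ Γ.QQ v := fun h => hb' (Subgroup.mul_mem _ hs' h)
  have h3 := mul_mem_QQ A hO hv hv' hw hu h1 h2
  have h4 := CC_comm A hO (Subgroup.mul_mem _ (Subgroup.inv_mem _ hr) hs) hw
  have e : (r * w)⁻¹ * (s * u) = (r⁻¹ * s) * (w * u) := by
    calc (r * w)⁻¹ * (s * u) = w⁻¹ * (r⁻¹ * s) * u := by group
      _ = w * (r⁻¹ * s) * u := by rw [inv_eq A hO hw]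
      _ = (r⁻¹ * s) * w * u := by rw [← h4]
      _ = _ := by group
  rw [e]
  exact Subgroup.mul_mem _ (Subgroup.mul_mem _ (Subgroup.inv_mem _ hr') hs') h3

include B in
/-- the subgroup `Vs O s` for `s ∉ O` -/
theorem exists_V {s : G} (hs : s ∉ O) : ∃ V : Subgroup G, (∀ v, v ∈ V ↔ v ∈ Γ.Vs O s) ∧ V ≤ O ∧
    (∀ v ∈ V, v ≠ 1 → v ∈ Γ.Pt ∧ s ∈ Γ.KK O v) ∧ (∀ v ∈ O, v ∈ Γ.Pt → s ∈ Γ.KK O v → v ∈ V) ∧
    (∀ v ∈ V, v ≠ 1 → ∀ w ∈ V, w ∈ Γ.QQ v) := by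
  have hcol : ∀ v w, v ∈ O → v ∈ Γ.Pt → s ∈ Γ.KK O v → w ∈ O → w ∈ Γ.Pt → s ∈ Γ.KK O w → w ∈ Γ.QQ v :=
    fun v w hv hv' hsv hw hw' hsw => coll_of_KK B A hO hv hw hv' hw' hsv hsw hs
  let V : Subgroup G := {
    carrier := Γ.Vs O s
    one_mem' := Or.inl rfl
    mul_mem' := by
      rintro v w (rfl | ⟨hv, hv', hsv⟩) (rfl | ⟨hw, hw', hsw⟩)
      · left; rw [one_mul]
      · right; rw [one_mul]; exact ⟨hw, hw', hsw⟩
      · right; rw [mul_one]; exact ⟨hv, hv', hsv⟩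
      · by_cases hvw : v = w
        · left; rw [hvw]; exact B.pt_sq w hw'
        · right
          have hc := hcol v w hv hv' hsv hw hw' hsw
          exact ⟨O.mul_mem hv hw, B.line v hv' w hw' hvw hc, KK_mul B A hO hv hw hv' hw' hvw hc hsv hsw⟩
    inv_mem' := by
      rintro v (rfl | ⟨hv, hv', hsv⟩)
      · left; exact inv_one
      · right; rw [inv_eq A hO hv]; exact ⟨hv, hv', hsv⟩ }
  refine ⟨V, fun v => Iff.rfl, ?_, ?_, ?_, ?_⟩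
  · rintro v (rfl | ⟨hv, -⟩)
    · exact O.one_mem
    · exact hv
  · rintro v (rfl | ⟨-, hv, h⟩) hne
    · exact absurd rfl hne
    · exact ⟨hv, h⟩
  · exact fun v h1 h2 h3 => Or.inr ⟨h1, h2, h3⟩
  · rintro v (rfl | ⟨hv, hv', hsv⟩) hne w (rfl | ⟨hw, hw', hsw⟩)
    · exact absurd rfl hne
    · exact absurd rfl hne
    · exact Subgroup.one_mem _
    · exact hcol v w hv hv' hsv hw hw' hsw

omit A hO in
theorem ncard_eq (V : Subgroup G) {S : Set G} (h : ∀ v, v ∈ V ↔ v ∈ S) : Nat.card V = S.ncard := by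
  have : (V : Set G) = S := Set.ext h
  rw [← this]; rfl

/-- `Vs` depends only on the coset -/
theorem Vs_mul {s w : G} (hw : w ∈ O) : Γ.Vs O (s * w) = Γ.Vs O s := by
  ext v
  unfold Geo.Vs
  simp only [Set.mem_ofPred_eq]
  have h : s * w ∈ Γ.KK O v ↔ s ∈ Γ.KK O v := Subgroup.mul_mem_cancel_right _ (O_le_KK hw)
  rw [h]

include B in
theorem V_card' {z s : G} (hz : z ∈ O) (hz' : z ∈ Γ.Pt) (hs : s ∈ Γ.KK O z) (h2 : s * s = 1) (hsO : s ∉ O) :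
    (Γ.Vs O s).ncard = 32 := by
  obtain ⟨r, hr, hr', hr2, w, hw, rfl⟩ := KK_inv A hO hs h2
  rw [Vs_mul A hO hw]
  exact A.V_card O hO z hz hz' r hr hr' hr2 fun h => hsO (O.mul_mem h hw)

include B in
theorem V_inter' {z s s' : G} (hz : z ∈ O) (hz' : z ∈ Γ.Pt) (hs : s ∈ Γ.KK O z) (h2 : s * s = 1) (hsO : s ∉ O)
    (hs' : s' ∈ Γ.KK O z) (h2' : s' * s' = 1) (hsO' : s' ∉ O) (hc : s * s' = s' * s) (hss : s * s' ∉ O) :
    8 ≤ (Γ.Vs O s ∩ Γ.Vs O s').ncard := by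
  obtain ⟨r, hr, hr', hr2, w, hw, rfl⟩ := KK_inv A hO hs h2
  obtain ⟨r', hrr, hrr', hrr2, w', hw', rfl⟩ := KK_inv A hO hs' h2'
  rw [Vs_mul A hO hw, Vs_mul A hO hw']
  have k1 := CC_comm A hO hr hw
  have k2 := CC_comm A hO hr hw'
  have k3 := CC_comm A hO hrr hw
  have k4 := CC_comm A hO hrr hw'
  have k5 := A.comm O hO w hw w' hw'
  have e1 : r * w * (r' * w') = (r * r') * (w * w') := by
    calc r * w * (r' * w') = r * (w * r') * w' := by group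
      _ = r * (r' * w) * w' := by rw [k3]
      _ = _ := by group
  have e2 : r' * w' * (r * w) = (r' * r) * (w * w') := by
    calc r' * w' * (r * w) = r' * (w' * r) * w := by group
      _ = r' * (r * w') * w := by rw [k2]
      _ = (r' * r) * (w' * w) := by group
      _ = _ := by rw [k5]
  have hc' : r * r' = r' * r := by
    rw [e1, e2] at hc
    exact mul_right_cancel hc
  apply A.V_inter O hO z hz hz' r hr hr' hr2 (fun h => hsO (O.mul_mem h hw)) r' hrr hrr' hrr2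
    (fun h => hsO' (O.mul_mem h hw')) hc'
  intro h
  apply hss
  rw [e1]
  exact O.mul_mem h (O.mul_mem hw hw')

include B in
/-- elements commuting with `z` and `y` normalise the ark of `z` and `y` -/
theorem norm_of {z y g : G} (hz : z ∈ O) (hz' : z ∈ Γ.Pt) (hy : y ∈ Γ.KK O z) (hy' : y ∉ Γ.QQ z) (hgz : g * z = z * g)
    (hgy : g * y = y * g) : cj g O = O := by
  have ez : g * z * g⁻¹ = z := by rw [hgz]; group
  have ey : g * y * g⁻¹ = y := by rw [hgy]; group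
  have h1 := KK_conj B hz' g hy
  rw [ez, ey] at h1
  refine (A.unique O hO _ (A.conj O hO g) z hz' hz ?_ y hy h1 hy').symm
  have h2 := (conj_mem_cj (g := g)).2 hz
  rwa [ez] at h2

/-- the form on `O` is invariant -/
theorem norm_mem {g : G} (h : cj g O = O) {a : G} (ha : a ∈ O) : g * a * g⁻¹ ∈ O := by
  have h1 := (conj_mem_cj (g := g)).2 ha
  rwa [h] at h1

include B in
theorem norm_KK {g v x : G} (h : cj g O = O) (hv : v ∈ Γ.Pt) (hx : x ∈ Γ.KK O v) (hgx : g * x = x * g) :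
    x ∈ Γ.KK O (g * v * g⁻¹) := by
  have h1 := KK_conj B hv g hx
  have e : g * x * g⁻¹ = x := by rw [hgx]; group
  rwa [h, e] at h1

include B in
theorem norm_Vs {g s v : G} (h : cj g O = O) (hgs : g * s = s * g) (hv : v ∈ Γ.Vs O s) : g * v * g⁻¹ ∈ Γ.Vs O s := by
  rcases hv with rfl | ⟨h1, h2, h3⟩
  · left; group
  · exact Or.inr ⟨norm_mem A hO h h1, B.pt_conj v h2 g, norm_KK B A hO h h2 h3 hgs⟩

include B in
/-- `{q : q = 1 ∨ s ∈ QQ q}` in a subgroup on which `s ∈ KK O q` -/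
theorem exists_R {s : G} {X : Subgroup G} (hX : X ≤ O) (hp : ∀ q ∈ X, q ≠ 1 → q ∈ Γ.Pt)
    (hc : ∀ q ∈ X, q ≠ 1 → ∀ q' ∈ X, q' ∈ Γ.QQ q) (hK : ∀ q ∈ X, q ≠ 1 → s ∈ Γ.KK O q) :
    ∃ R : Subgroup G, (∀ q, q ∈ R ↔ q ∈ X ∧ (q = 1 ∨ s ∈ Γ.QQ q)) ∧ R ≤ X ∧
      ∀ a ∈ X, ∀ b ∈ X, a ∉ R → b ∉ R → a⁻¹ * b ∈ R := by
  let R : Subgroup G := {
    carrier := {q | q ∈ X ∧ (q = 1 ∨ s ∈ Γ.QQ q)}
    one_mem' := ⟨X.one_mem, Or.inl rfl⟩
    mul_mem' := by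
      rintro v w ⟨hv, hv'⟩ ⟨hw, hw'⟩
      refine ⟨X.mul_mem hv hw, ?_⟩
      rcases hv' with rfl | hv'
      · rw [one_mul]; exact hw'
      · rcases hw' with rfl | hw'
        · rw [mul_one]; exact Or.inr hv'
        · by_cases h1 : v * w = 1
          · exact Or.inl h1
          · right
            by_cases hv1 : v = 1
            · subst hv1; rw [one_mul]; exact hw'
            by_cases hw1 : w = 1
            · subst hw1; rw [mul_one]; exact hv'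
            exact sing_mul B (hp v hv hv1) (hp w hw hw1) (hc v hv hv1 w hw) hv' hw' h1
    inv_mem' := by
      rintro v ⟨hv, hv'⟩
      refine ⟨X.inv_mem hv, ?_⟩
      rw [inv_eq A hO (hX hv)]
      exact hv' }
  refine ⟨R, fun q => Iff.rfl, fun q hq => hq.1, ?_⟩
  intro a ha b hb haR hbR
  refine ⟨X.mul_mem (X.inv_mem ha) hb, ?_⟩
  rw [inv_eq A hO (hX ha)]
  by_cases hab : a = b
  · left; rw [hab]; exact A.sq O hO b (hX hb)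
  have ha1 : a ≠ 1 := fun h => haR ⟨ha, Or.inl h⟩
  have hb1 : b ≠ 1 := fun h => hbR ⟨hb, Or.inl h⟩
  have hsa : s ∉ Γ.QQ a := fun h => haR ⟨ha, Or.inr h⟩
  have hsb : s ∉ Γ.QQ b := fun h => hbR ⟨hb, Or.inr h⟩
  right
  obtain ⟨r, hr, h1, h2, t, ht, rfl⟩ := KK_inf B A hO (hX ha) (hX hb) (hp a ha ha1) (hp b hb hb1) hab
    (hK a ha ha1) (hK b hb hb1)
  have hta : t ∉ Γ.QQ a := fun h => hsa (Subgroup.mul_mem _ h1 h)
  have htb : t ∉ Γ.QQ b := fun h => hsb (Subgroup.mul_mem _ h2 h)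
  have hpab : a * b ∈ Γ.Pt := B.line a (hp a ha ha1) b (hp b hb hb1) hab (hc a ha ha1 b hb)
  apply Subgroup.mul_mem _ (B.line_inf a (hp a ha ha1) b (hp b hb hb1) hab (hc a ha ha1 b hb) r h1 h2)
  rw [not_mem_QQ A hO (hX ha) (hp a ha ha1) ht] at hta
  rw [not_mem_QQ A hO (hX hb) (hp b hb hb1) ht] at htb
  rw [A.bet_iff O hO (a * b) (O.mul_mem (hX ha) (hX hb)) hpab t ht, bet_mul_right A hO ht (hX ha) (hX hb), hta, htb,
    one_one]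

end One

end Cfsg.Agent.R2.M7.Ark
end
end

-- part: R2/M7/MainC
section
prune_inst 0x40003000000000000000400000200000000000000000014000000040000000400000000000000000000000000000000000000000000000000000000000000002000080080000000000001000000000000000000000000000000000000000000000000
set_option linter.all false
open scoped Cfsg.Agent.FastGrp

-- part: R2/M7/T0
section
/-!
# The main argument, first case: `z`, `y` not collinear, both in the ark `O` (helper18, S5539)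
-/

set_option autoImplicit false
set_option linter.unusedSectionVars false

namespace Cfsg.Agent.R2.M7.T0

open Geo Elem Ark

variable {G : Type*} [Group G] [Finite G] {Γ : Geo G}

/-- (K2) -/
theorem exists_KK (F : Γ.Facts) {O : Subgroup G} (hO : O ∈ Γ.Ark) {z t u : G} (hz : z ∈ O) (hz' : z ∈ Γ.Pt) (ht : t ∈ O)
    (ht' : t ∈ Γ.Pt) (hzt : t ∉ Γ.QQ z) (hu : u ∈ CC O) (h2 : u * u = 1) : ∃ v ∈ O, v ∈ Γ.Pt ∧ u ∈ Γ.KK O v := by
  have B := F.basic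
  have A := F.ark
  obtain ⟨r, hr, hr', s, hs, hs', rfl⟩ := A.opp_sup O hO z hz hz' t ht ht' hzt u hu
  have htz : z ∉ Γ.QQ t := fun h => hzt (B.symm t ht' z hz' h)
  have hrt := CC_comm A hO hr ht
  have hsz := CC_comm A hO hs hz
  have hrinv : r⁻¹ * t = t * r⁻¹ := CC_comm A hO (Subgroup.inv_mem _ hr) ht
  have hc1 : r⁻¹ * (s * r * s⁻¹) ∈ Γ.QQ z := Subgroup.mul_mem _ (Subgroup.inv_mem _ hr') (QQ_norm B hz' hsz hr')
  have hc2 : r⁻¹ * (s * r * s⁻¹) ∈ Γ.QQ t := by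
    have h1 := QQ_norm B ht' hrinv hs'
    have e : r⁻¹ * (s * r * s⁻¹) = (r⁻¹ * s * r⁻¹⁻¹) * s⁻¹ := by group
    rw [e]
    exact Subgroup.mul_mem _ h1 (Subgroup.inv_mem _ hs')
  have hcC : r⁻¹ * (s * r * s⁻¹) ∈ CC O := Subgroup.mul_mem _ (Subgroup.inv_mem _ hr)
    (Subgroup.mul_mem _ (Subgroup.mul_mem _ hs hr) (Subgroup.inv_mem _ hs))
  have hcO : r⁻¹ * (s * r * s⁻¹) ∈ O := A.opp_inf O hO z hz hz' t ht ht' hzt _ hcC hc1 hc2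
  have hsq : (r * r) * (r⁻¹ * (s * r * s⁻¹)) * (s * s) = 1 := by
    rw [← h2]; group
  have key : r * r = 1 ∧ s * s = 1 ∧ r⁻¹ * (s * r * s⁻¹) = 1 := by
    generalize r⁻¹ * (s * r * s⁻¹) = c at *
    rcases F.qsq z hz' r hr' with h1 | h1 <;> rcases F.qsq t ht' s hs' with h3 | h3
    · rw [h1, h3, one_mul, mul_one] at hsq
      exact ⟨h1, h3, hsq⟩
    · exfalso
      rw [h1, h3, one_mul] at hsq
      have : c = t := by
        rw [← inv_eq A hO ht]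
        exact eq_inv_of_mul_eq_one_left hsq
      rw [this] at hc1
      exact hzt hc1
    · exfalso
      rw [h1, h3, mul_one] at hsq
      have : c = z := by
        rw [← inv_eq A hO hcO]
        exact (eq_inv_of_mul_eq_one_left hsq).symm
      rw [this] at hc2
      exact htz hc2
    · exfalso
      rw [h1, h3] at hsq
      have : z * c = t := by
        rw [← inv_eq A hO ht]
        exact eq_inv_of_mul_eq_one_left hsq
      apply hzt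
      rw [← this]
      exact Subgroup.mul_mem _ (B.QQ_self z hz') hc1
  obtain ⟨hr2, hs2, hc⟩ := key
  have hcomm : r * s = s * r := by
    calc r * s = r * (r⁻¹ * (s * r * s⁻¹)) * s := by rw [hc, mul_one]
      _ = s * r := by group
  by_cases hsO : s ∈ O
  · exact ⟨z, hz, hz', KK_of hr hr' hsO⟩
  obtain ⟨V, hV, hVO, hV1, hV2, hV3⟩ := exists_V B A hO hsO
  have hcard : Nat.card V = 32 := by
    rw [ncard_eq V hV]
    exact A.V_card O hO t ht ht' s hs hs' hs2 hsO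
  have htV : t ∈ V := hV2 t ht ht' (KK_of' hs hs')
  have hhalf : Nat.card V ≤ 2 * Nat.card (V ⊓ Γ.QQ z : Subgroup G) := by
    apply le_two
    intro a ha b hb ha' hb'
    rw [inv_eq A hO (hVO ha)]
    exact mul_mem_QQ A hO hz hz' (hVO ha) (hVO hb) ha' hb'
  obtain ⟨v, ⟨hv, hvz⟩, hv1⟩ := exists_ne_one (E := V ⊓ Γ.QQ z) (by omega)
  obtain ⟨hvp, hsv⟩ := hV1 v hv hv1
  have hvne : v ≠ z := by
    rintro rfl
    exact htz (hV3 t htV (B.pt_ne t ht') v hv)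
  obtain ⟨s₀, hs₀, hs₀', hs₀2, w, hw, rfl⟩ := KK_inv A hO hsv hs2
  have hrs₀ : r * s₀ = s₀ * r := by
    have h1 := CC_comm A hO hr hw
    apply mul_right_cancel (b := w)
    calc r * s₀ * w = r * (s₀ * w) := by group
      _ = s₀ * w * r := hcomm
      _ = s₀ * (w * r) := by group
      _ = s₀ * (r * w) := by rw [h1]
      _ = _ := by group
  rcases A.lstar O hO z hz hz' v (hVO hv) hvp hvz hvne r hr hr' s₀ hs₀ hs₀' hrs₀ with h | h | h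
  · exact ⟨v, hVO hv, hvp, Subgroup.mul_mem _ h hsv⟩
  · exact ⟨z, hz, hz', Subgroup.mul_mem _ (KK_of' hr hr') (Subgroup.mul_mem _ h (O_le_KK hw))⟩
  · refine ⟨z * v, O.mul_mem hz (hVO hv), B.line z hz' v hvp hvne.symm hvz, ?_⟩
    rw [← mul_assoc]
    exact Subgroup.mul_mem _ h (O_le_KK hw)

/-- the points `z` of `Z` with `|Z ∩ QQ z|` maximal -/
structure Max (Γ : Geo G) (Z : Subgroup G) (z : G) : Prop where
  mem : z ∈ Z
  pt : z ∈ Γ.Pt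
  le : ∀ x ∈ Z, x ∈ Γ.Pt → Nat.card (Z ⊓ Γ.QQ x : Subgroup G) ≤ Nat.card (Z ⊓ Γ.QQ z : Subgroup G)

theorem Max.eq {Z : Subgroup G} {z y : G} (hz : Max Γ Z z) (hy : Max Γ Z y) :
    Nat.card (Z ⊓ Γ.QQ z : Subgroup G) = Nat.card (Z ⊓ Γ.QQ y : Subgroup G) :=
  le_antisymm (hy.le z hz.mem hz.pt) (hz.le y hy.mem hy.pt)

theorem typeO {T Z : Subgroup G} (F : Γ.Facts) (S : Γ.Sit T Z) {z y : G} (hz : Max Γ Z z) (hy : y ∈ Z) (hzy : y ∉ Γ.QQ z) :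
    ∃ O ∈ Γ.Ark, z ∈ O ∧ y ∈ Γ.KK O z := by
  have B := F.basic
  rcases F.type z hz.pt y (S.ab y hy z hz.mem) hzy (S.sq y hy) with ⟨c, hc, hcz, hyc, hcent, hs⟩ | h
  · exfalso
    have hcZ : c ∈ Z := S.all c (B.pt_sq c hc) fun t ht => hcent t (S.comm z hz.mem t ht) (S.comm y hy t ht)
    have h1 : Z ⊓ Γ.QQ z ≤ Z ⊓ Γ.QQ c := fun s hs' => ⟨hs'.1, hs s hs'.2 (S.sq s hs'.1) (S.ab s hs'.1 y hy)⟩
    have h2 := two_mul_le' h1 (x := y) ⟨hy, hyc⟩ fun h => hzy h.2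
    have h3 := hz.le c hcZ hc
    have h4 : 0 < Nat.card (Z ⊓ Γ.QQ z : Subgroup G) := Nat.card_pos
    omega
  · exact h

/-- a nontrivial `T`-invariant subgroup of exponent 2 meets `Z` -/
theorem fix {T Z : Subgroup G} (S : Γ.Sit T Z) {E : Subgroup G} (hE : ∀ a ∈ E, a * a = 1) (h1 : 1 < Nat.card E)
    (hinv : ∀ t ∈ T, ∀ a ∈ E, t * a * t⁻¹ ∈ E) : ∃ p ∈ E, p ≠ 1 ∧ p ∈ Z := by
  obtain ⟨e, he, hne⟩ := exists_ne_one h1
  obtain ⟨x, hx, hx1, hx'⟩ := fixed S.two hE he hne hinv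
  exact ⟨x, hx, hx1, S.all x (hE x hx) hx'⟩

/-- the situation of this file -/
structure Opp (Γ : Geo G) (T Z : Subgroup G) (z y : G) (O : Subgroup G) : Prop where
  F : Γ.Facts
  S : Γ.Sit T Z
  hz : Max Γ Z z
  hy : Max Γ Z y
  zy : y ∉ Γ.QQ z
  hO : O ∈ Γ.Ark
  z_mem : z ∈ O
  y_mem : y ∈ O

namespace Opp

variable {T Z : Subgroup G} {z y : G} {O : Subgroup G} (h : Opp Γ T Z z y O)
include h

theorem yz : z ∉ Γ.QQ y := fun h' => h.zy (h.F.basic.symm y h.hy.pt z h.hz.pt h')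

theorem symm : Opp Γ T Z y z O := ⟨h.F, h.S, h.hy, h.hz, h.yz, h.hO, h.y_mem, h.z_mem⟩

theorem cent {x : G} (hx : x ∈ Z) (hxz : x ∈ Γ.QQ z) : x ∈ CC O :=
  h.F.ark.cent_le O h.hO z h.z_mem h.hz.pt y (O_le_KK h.y_mem) h.zy x hxz (h.S.ab x hx y h.hy.mem)

theorem norm {t : G} (ht : t ∈ T) : cj t O = O :=
  norm_of h.F.basic h.F.ark h.hO h.z_mem h.hz.pt (O_le_KK h.y_mem) h.zy (h.S.comm z h.hz.mem t ht)
    (h.S.comm y h.hy.mem t ht)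

/-- the common part -/
theorem inf_mem {x : G} (hx : x ∈ Z) (hxz : x ∈ Γ.QQ z) (hxy : x ∈ Γ.QQ y) : x ∈ O :=
  h.F.ark.opp_inf O h.hO z h.z_mem h.hz.pt y h.y_mem h.hy.pt h.zy x (h.cent hx hxz) hxz hxy

theorem card_Wz : Nat.card (Z ⊓ O ⊓ Γ.QQ z : Subgroup G) = 2 * Nat.card (Z ⊓ O ⊓ Γ.QQ z ⊓ Γ.QQ y : Subgroup G) := by
  apply le_antisymm
  · apply le_two
    intro a ha b hb ha' hb'
    rw [inv_eq h.F.ark h.hO ha.1.2]
    exact mul_mem_QQ h.F.ark h.hO h.y_mem h.hy.pt ha.1.2 hb.1.2 ha' hb'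
  · exact two_mul_le' inf_le_left (x := z) ⟨⟨h.hz.mem, h.z_mem⟩, h.F.basic.QQ_self z h.hz.pt⟩ fun h' => h.yz h'.2

theorem card_O : Nat.card (Z ⊓ O : Subgroup G) = 2 * Nat.card (Z ⊓ O ⊓ Γ.QQ z : Subgroup G) := by
  apply le_antisymm
  · apply le_two
    intro a ha b hb ha' hb'
    rw [inv_eq h.F.ark h.hO ha.2]
    exact mul_mem_QQ h.F.ark h.hO h.z_mem h.hz.pt ha.2 hb.2 ha' hb'
  · exact two_mul_le' inf_le_left (x := y) ⟨h.hy.mem, h.y_mem⟩ fun h' => h.zy h'.2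

theorem W_symm : (Z ⊓ O ⊓ Γ.QQ z ⊓ Γ.QQ y : Subgroup G) = Z ⊓ O ⊓ Γ.QQ y ⊓ Γ.QQ z := inf_right_comm _ _ _

/-- **Case A.** -/
theorem caseA (hA : Z ⊓ Γ.QQ z ≤ O) : Z ∈ Γ.Ark := by
  have B := h.F.basic
  have A := h.F.ark
  have c1 := h.card_Wz
  have c2 := h.card_O
  have hpos : 0 < Nat.card (Z ⊓ O ⊓ Γ.QQ z ⊓ Γ.QQ y : Subgroup G) := Nat.card_pos
  have e1 : Z ⊓ Γ.QQ z = Z ⊓ O ⊓ Γ.QQ z :=
    le_antisymm (fun x hx => ⟨⟨hx.1, hA hx⟩, hx.2⟩) (fun x hx => ⟨hx.1.1, hx.2⟩)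
  by_cases hT : ∃ t ∈ T, ∃ a ∈ O, t * a ≠ a * t
  · exfalso
    obtain ⟨v, hv, hvp, hvT, hv2⟩ := A.omega O h.hO T h.S.two (fun t ht a ha => norm_mem A h.hO (h.norm ht) ha) hT
    have hvZ : v ∈ Z := h.S.all v (A.sq O h.hO v hv) hvT
    have h1 : Z ⊓ O ≤ Z ⊓ Γ.QQ v := fun a ha => ⟨ha.1, hv2 a ha.2 fun t ht => h.S.comm a ha.1 t ht⟩
    have h2 := card_le h1
    have h3 := h.hz.le v hvZ hvp
    rw [e1] at h3
    omega
  · push Not at hT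
    have hOZ : O ≤ Z := fun a ha => h.S.all a (A.sq O h.hO a ha) fun t ht => hT t ht a ha
    have e2 : Z ⊓ O = O := inf_eq_right.2 hOZ
    rw [e2, A.card O h.hO] at c2
    suffices hZ : Z ≤ O by
      rw [le_antisymm hZ hOZ]
      exact h.hO
    by_contra hcon
    obtain ⟨u, hu, huO⟩ := Set.not_subset.1 hcon
    have huC : u ∈ CC O := mem_CC.2 fun a ha => h.S.ab a (hOZ ha) u hu
    obtain ⟨v, hv, hvp, huv⟩ := exists_KK h.F h.hO h.z_mem h.hz.pt h.y_mem h.hy.pt h.zy huC (h.S.sq u hu)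
    obtain ⟨r, hr, hr', t, ht, rfl⟩ := mem_KK huv
    have hrZ : r ∈ Z := by
      have e : r = r * t * t⁻¹ := by group
      rw [e]
      exact Z.mul_mem hu (Z.inv_mem (hOZ ht))
    have hrO : r ∉ O := fun h' => huO (O.mul_mem h' ht)
    have h1 : Nat.card O ≤ 2 * Nat.card (O ⊓ Γ.QQ v : Subgroup G) := by
      apply le_two
      intro a ha b hb ha' hb'
      rw [inv_eq A h.hO ha]
      exact mul_mem_QQ A h.hO hv hvp ha hb ha' hb'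
    have h2 : 2 * Nat.card (O ⊓ Γ.QQ v : Subgroup G) ≤ Nat.card (Z ⊓ Γ.QQ v : Subgroup G) :=
      two_mul_le' (inf_le_inf_right _ hOZ) (x := r) ⟨hrZ, hr'⟩ fun h' => hrO h'.1
    have h3 := h.hz.le v (hOZ hv) hvp
    have h4 := A.card O h.hO
    rw [e1] at h3
    rw [h4] at h1
    rw [e2] at h3 c1
    omega

/-- (a7) -/
theorem key {s p a : G} (hs : s ∈ Z) (hsy : s ∈ Γ.QQ y) (hsO : s ∉ O) (hp : p ∈ O) (hp' : p ∈ Γ.Pt) (hpz : p ∈ Γ.QQ z)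
    (hsp : s ∈ Γ.KK O p) (ha : a ∈ Z) (haz : a ∈ Γ.QQ z) (hap : a ∉ Γ.KK O p) : a * s ∈ Γ.KK O (z * p) := by
  have B := h.F.basic
  have A := h.F.ark
  have haC := h.cent ha haz
  have hsC := h.symm.cent hs hsy
  have hne : p ≠ z := by
    rintro rfl
    exact hap (KK_of' haC haz)
  obtain ⟨r, hr, hr', hr2, t, ht, rfl⟩ := KK_inv A h.hO hsp (h.S.sq s hs)
  have har : a * r = r * a := by
    have h1 := CC_comm A h.hO haC ht
    have h2 := h.S.ab a ha _ hs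
    apply mul_right_cancel (b := t)
    calc a * r * t = a * (r * t) := by group
      _ = r * t * a := h2
      _ = r * (t * a) := by group
      _ = r * (a * t) := by rw [h1]
      _ = _ := by group
  rcases A.lstar O h.hO z h.z_mem h.hz.pt p hp hp' hpz hne a haC haz r hr hr' har with h1 | h1 | h1
  · exact absurd h1 hap
  · exfalso
    apply hsO
    exact KK_opp B A h.hO h.z_mem h.y_mem h.hz.pt h.hy.pt h.zy (Subgroup.mul_mem _ h1 (O_le_KK ht)) (KK_of' hsC hsy)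
  · rw [← mul_assoc]
    exact Subgroup.mul_mem _ h1 (O_le_KK ht)

/-- (II) -/
theorem two {s p : G} (hs : s ∈ Z) (hsy : s ∈ Γ.QQ y) (hsO : s ∉ O) (hp : p ∈ O) (hp' : p ∈ Γ.Pt) (hpz : p ∈ Γ.QQ z)
    (hsp : s ∈ Γ.KK O p) :
    Nat.card (Z ⊓ Γ.QQ z : Subgroup G) ≤ 2 * Nat.card (Z ⊓ Γ.QQ z ⊓ Γ.KK O p : Subgroup G) := by
  have B := h.F.basic
  have A := h.F.ark
  apply le_two
  intro a ha b hb ha' hb'
  have hne : z ≠ p := by
    rintro rfl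
    exact ha' (KK_of' (h.cent ha.1 ha.2) ha.2)
  have h1 := h.key hs hsy hsO hp hp' hpz hsp ha.1 ha.2 ha'
  have h2 := h.key hs hsy hsO hp hp' hpz hsp hb.1 hb.2 hb'
  have h3 : a⁻¹ * b ∈ Γ.KK O (z * p) := by
    have h4 := Subgroup.mul_mem _ (Subgroup.inv_mem _ h1) h2
    have e : (a * s)⁻¹ * (b * s) = a⁻¹ * b := by
      have hsa : s * (a⁻¹ * b) = (a⁻¹ * b) * s := h.S.ab s hs _ (Z.mul_mem (Z.inv_mem ha.1) hb.1)
      calc (a * s)⁻¹ * (b * s) = s⁻¹ * ((a⁻¹ * b) * s) := by group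
        _ = s⁻¹ * (s * (a⁻¹ * b)) := by rw [hsa]
        _ = _ := by group
    rwa [e] at h4
  have h5 : a⁻¹ * b ∈ Γ.KK O z := KK_of' (h.cent (Z.mul_mem (Z.inv_mem ha.1) hb.1)
    (Subgroup.mul_mem _ (Subgroup.inv_mem _ ha.2) hb.2)) (Subgroup.mul_mem _ (Subgroup.inv_mem _ ha.2) hb.2)
  have hzp : z * p ∈ Γ.Pt := B.line z h.hz.pt p hp' hne hpz
  have hz1 : z * (z * p) = p := by rw [← mul_assoc, B.pt_sq z h.hz.pt, one_mul]
  have h6 := KK_mul B A h.hO h.z_mem (O.mul_mem h.z_mem hp) h.hz.pt hzp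
    (fun h' => B.pt_ne p hp' (by rw [← hz1, ← h']; exact B.pt_sq z h.hz.pt))
    (Subgroup.mul_mem _ (B.QQ_self z h.hz.pt) hpz) h5 h3
  rwa [hz1] at h6

/-- (I) -/
theorem one {p : G} (hpZ : p ∈ Z) (hp : p ∈ O) (hp' : p ∈ Γ.Pt) :
    Nat.card (Z ⊓ Γ.QQ z ⊓ Γ.KK O p : Subgroup G) * Nat.card (Z ⊓ Γ.QQ y ⊓ Γ.KK O p : Subgroup G) ≤
      2 * Nat.card (Z ⊓ Γ.QQ z : Subgroup G) * Nat.card (Z ⊓ O ⊓ Γ.QQ z ⊓ Γ.QQ y : Subgroup G) := by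
  have A := h.F.ark
  have h1 : Nat.card (Z ⊓ Γ.QQ z ⊓ Γ.KK O p : Subgroup G) * Nat.card (Z ⊓ Γ.QQ y ⊓ Γ.KK O p : Subgroup G) ≤
      Nat.card (Z ⊓ Γ.KK O p : Subgroup G) *
        Nat.card ((Z ⊓ Γ.QQ z ⊓ Γ.KK O p) ⊓ (Z ⊓ Γ.QQ y ⊓ Γ.KK O p) : Subgroup G) :=
    mul_le (inf_le_inf_right _ inf_le_left) (inf_le_inf_right _ inf_le_left)
  have h2 : Nat.card ((Z ⊓ Γ.QQ z ⊓ Γ.KK O p) ⊓ (Z ⊓ Γ.QQ y ⊓ Γ.KK O p) : Subgroup G) ≤
      Nat.card (Z ⊓ O ⊓ Γ.QQ z ⊓ Γ.QQ y : Subgroup G) := by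
    apply card_le
    intro x hx
    exact ⟨⟨⟨hx.1.1.1, h.inf_mem hx.1.1.1 hx.1.1.2 hx.2.1.2⟩, hx.1.1.2⟩, hx.2.1.2⟩
  have h3 : Nat.card (Z ⊓ Γ.KK O p : Subgroup G) ≤ 2 * Nat.card (Z ⊓ Γ.KK O p ⊓ Γ.QQ p : Subgroup G) := by
    apply le_two
    intro a ha b hb ha' hb'
    exact KK_two A h.hO hp hp' ha.2 hb.2 ha' hb'
  have h4 : Nat.card (Z ⊓ Γ.KK O p ⊓ Γ.QQ p : Subgroup G) ≤ Nat.card (Z ⊓ Γ.QQ p : Subgroup G) :=
    card_le (inf_le_inf_right _ inf_le_left)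
  have h5 := h.hz.le p hpZ hp'
  calc _ ≤ _ := h1
    _ ≤ Nat.card (Z ⊓ Γ.KK O p : Subgroup G) * Nat.card (Z ⊓ O ⊓ Γ.QQ z ⊓ Γ.QQ y : Subgroup G) :=
      Nat.mul_le_mul_left _ h2
    _ ≤ _ := Nat.mul_le_mul_right _ (by omega)

/-- `|B_p| ≤ 4 w` -/
theorem three {s p : G} (hs : s ∈ Z) (hsy : s ∈ Γ.QQ y) (hsO : s ∉ O) (hpZ : p ∈ Z) (hp : p ∈ O) (hp' : p ∈ Γ.Pt)
    (hpz : p ∈ Γ.QQ z) (hsp : s ∈ Γ.KK O p) :
    Nat.card (Z ⊓ Γ.QQ y ⊓ Γ.KK O p : Subgroup G) ≤ 4 * Nat.card (Z ⊓ O ⊓ Γ.QQ z ⊓ Γ.QQ y : Subgroup G) := by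
  have h1 := h.two hs hsy hsO hp hp' hpz hsp
  have h2 := h.one hpZ hp hp'
  have hpos : 0 < Nat.card (Z ⊓ Γ.QQ z : Subgroup G) := Nat.card_pos
  generalize Nat.card (Z ⊓ Γ.QQ z : Subgroup G) = m at *
  generalize Nat.card (Z ⊓ Γ.QQ z ⊓ Γ.KK O p : Subgroup G) = a at *
  generalize Nat.card (Z ⊓ Γ.QQ y ⊓ Γ.KK O p : Subgroup G) = b at *
  generalize Nat.card (Z ⊓ O ⊓ Γ.QQ z ⊓ Γ.QQ y : Subgroup G) = w at *
  have h3 : m * b ≤ 2 * (a * b) := by nlinarith only [h1]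
  have h4 : m * b ≤ m * (4 * w) := by linarith only [h2, h3]
  exact Nat.le_of_mul_le_mul_left h4 hpos

/-- a fixed point -/
theorem exists_p {s : G} (hs : s ∈ Z) (hsO : s ∉ O) {E : Subgroup G} (hEO : E ≤ O)
    (hE : ∀ v ∈ E, v ≠ 1 → v ∈ Γ.Pt ∧ s ∈ Γ.KK O v) (hinv : ∀ t ∈ T, ∀ a ∈ E, t * a * t⁻¹ ∈ E) (hc : 1 < Nat.card E) :
    ∃ p ∈ E, p ∈ Z ∧ p ∈ O ∧ p ∈ Γ.Pt ∧ s ∈ Γ.KK O p := by
  obtain ⟨p, hp, hp1, hpZ⟩ := fix h.S (fun a ha => h.F.ark.sq O h.hO a (hEO ha)) hc hinv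
  exact ⟨p, hp, hpZ, hEO hp, (hE p hp hp1).1, (hE p hp hp1).2⟩

theorem QQ_inv {t q : G} {c : G} (hc : c ∈ Z) (hc' : c ∈ Γ.Pt) (ht : t ∈ T) (hq : q ∈ Γ.QQ c) : t * q * t⁻¹ ∈ Γ.QQ c :=
  QQ_norm h.F.basic hc' (h.S.comm c hc t ht) hq

/-- two elements of `Z_y ∖ O` -/
theorem four {s s' : G} (hs : s ∈ Z) (hsy : s ∈ Γ.QQ y) (hsO : s ∉ O) (hs' : s' ∈ Z) (hsy' : s' ∈ Γ.QQ y) (hsO' : s' ∉ O) :
    s * s' ∈ O := by
  by_contra hcon
  have B := h.F.basic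
  have A := h.F.ark
  have k1 : s ∈ Γ.KK O y := KK_of' (h.symm.cent hs hsy) hsy
  have k2 : s' ∈ Γ.KK O y := KK_of' (h.symm.cent hs' hsy') hsy'
  have h1 := V_inter' B A h.hO h.y_mem h.hy.pt k1 (h.S.sq s hs) hsO k2 (h.S.sq s' hs') hsO' (h.S.ab s hs s' hs') hcon
  obtain ⟨V, hV, hVO, hV1, hV2, hV3⟩ := exists_V B A h.hO hsO
  obtain ⟨V', hV', hVO', hV1', hV2', hV3'⟩ := exists_V B A h.hO hsO'
  have h2 : 8 ≤ Nat.card (V ⊓ V' : Subgroup G) := by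
    rw [ncard_eq (V ⊓ V') (S := Γ.Vs O s ∩ Γ.Vs O s')]
    · exact h1
    · intro v
      rw [Subgroup.mem_inf, hV, hV']
      rfl
  have h3 : Nat.card (V ⊓ V' : Subgroup G) ≤ 2 * Nat.card (V ⊓ V' ⊓ Γ.QQ z : Subgroup G) := by
    apply le_two
    intro a ha b hb ha' hb'
    rw [inv_eq A h.hO (hVO ha.1)]
    exact mul_mem_QQ A h.hO h.z_mem h.hz.pt (hVO ha.1) (hVO hb.1) ha' hb'
  obtain ⟨p, hpE, hpZ, hpO, hp', hsp⟩ := h.exists_p hs hsO (E := V ⊓ V' ⊓ Γ.QQ z) (fun x hx => hVO hx.1.1)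
    (fun v hv => hV1 v hv.1.1) (by
      intro t ht a ha
      refine ⟨⟨?_, ?_⟩, h.QQ_inv h.hz.mem h.hz.pt ht ha.2⟩
      · show t * a * t⁻¹ ∈ V
        rw [hV]
        exact norm_Vs B A h.hO (h.norm ht) (h.S.comm s hs t ht) ((hV a).1 ha.1.1)
      · show t * a * t⁻¹ ∈ V'
        rw [hV']
        exact norm_Vs B A h.hO (h.norm ht) (h.S.comm s' hs' t ht) ((hV' a).1 ha.1.2)) (by omega)
  have hsp' : s' ∈ Γ.KK O p := (hV1' p hpE.1.2 (B.pt_ne p hp')).2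
  have h4 := h.three hs hsy hsO hpZ hpO hp' hpE.2 hsp
  have h5 := h.symm.card_Wz
  rw [← h.W_symm] at h5
  have h6 := mem_of_le_two (S := Z ⊓ Γ.QQ y ⊓ Γ.KK O p) (R := Z ⊓ O ⊓ Γ.QQ y)
    (fun x hx => ⟨⟨hx.1.1, hx.2⟩, O_le_KK hx.1.2⟩) (by omega) (a := s) (b := s') ⟨⟨hs, hsy⟩, hsp⟩ ⟨⟨hs', hsy'⟩, hsp'⟩
    (fun h' => hsO h'.1.2) (fun h' => hsO' h'.1.2)
  apply hcon
  have h7 : s⁻¹ = s := inv_eq_of_mul_eq_one_right (h.S.sq s hs)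
  rw [h7] at h6
  exact h6.1.2

/-- `|Z_y| ≤ 4 w` -/
theorem five : Nat.card (Z ⊓ Γ.QQ y : Subgroup G) ≤ 4 * Nat.card (Z ⊓ O ⊓ Γ.QQ z ⊓ Γ.QQ y : Subgroup G) := by
  have h1 : Nat.card (Z ⊓ Γ.QQ y : Subgroup G) ≤ 2 * Nat.card (Z ⊓ Γ.QQ y ⊓ O : Subgroup G) := by
    apply le_two
    intro a ha b hb ha' hb'
    have h7 : a⁻¹ = a := inv_eq_of_mul_eq_one_right (h.S.sq a ha.1)
    rw [h7]
    exact h.four ha.1 ha.2 ha' hb.1 hb.2 hb'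
  have h2 := h.symm.card_Wz
  rw [← h.W_symm] at h2
  have h3 : Z ⊓ Γ.QQ y ⊓ O = Z ⊓ O ⊓ Γ.QQ y := inf_right_comm _ _ _
  rw [h3] at h1
  omega

/-- (III) -/
theorem six (hB : ¬ Z ⊓ Γ.QQ z ≤ O) :
    Nat.card (Z ⊓ Γ.QQ z : Subgroup G) = 4 * Nat.card (Z ⊓ O ⊓ Γ.QQ z ⊓ Γ.QQ y : Subgroup G) := by
  have h1 := h.card_Wz
  have h2 : 2 * Nat.card (Z ⊓ O ⊓ Γ.QQ z : Subgroup G) ≤ Nat.card (Z ⊓ Γ.QQ z : Subgroup G) :=
    two_mul_le (fun x hx => ⟨hx.1.1, hx.2⟩) fun h' => hB fun x hx => (h' hx).1.2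
  have h3 := h.five
  rw [← h.hz.eq h.hy] at h3
  omega

theorem symm_ne (hB : ¬ Z ⊓ Γ.QQ z ≤ O) : ¬ Z ⊓ Γ.QQ y ≤ O := by
  intro hcon
  have h1 := h.six hB
  have h2 := h.symm.card_Wz
  rw [← h.W_symm] at h2
  have h3 : Nat.card (Z ⊓ Γ.QQ y : Subgroup G) ≤ Nat.card (Z ⊓ O ⊓ Γ.QQ y : Subgroup G) :=
    card_le fun x hx => ⟨⟨hx.1, hcon hx⟩, hx.2⟩
  rw [← h.hz.eq h.hy] at h3
  have hpos : 0 < Nat.card (Z ⊓ O ⊓ Γ.QQ z ⊓ Γ.QQ y : Subgroup G) := Nat.card_pos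
  omega

/-- (IV) -/
theorem seven {s₁ s p : G} (hs₁ : s₁ ∈ Z) (hsz : s₁ ∈ Γ.QQ z) (hsO₁ : s₁ ∉ O) (hs : s ∈ Z) (hsy : s ∈ Γ.QQ y) (hsO : s ∉ O)
    (hpZ : p ∈ Z) (hp : p ∈ O) (hp' : p ∈ Γ.Pt) (hsp : s ∈ Γ.KK O p) : s₁ ∉ Γ.KK O p := by
  intro hcon
  have h0 := h.six fun h' => hsO₁ (h' ⟨hs₁, hsz⟩)
  have h1 := h.card_Wz
  have h2 := h.symm.card_Wz
  rw [← h.W_symm] at h2
  have h3 : 2 * Nat.card (Z ⊓ O ⊓ Γ.QQ z : Subgroup G) ≤ Nat.card (Z ⊓ Γ.QQ z ⊓ Γ.KK O p : Subgroup G) :=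
    two_mul_le' (fun x hx => ⟨⟨hx.1.1, hx.2⟩, O_le_KK hx.1.2⟩) (x := s₁) ⟨⟨hs₁, hsz⟩, hcon⟩ fun h' => hsO₁ h'.1.2
  have h4 : 2 * Nat.card (Z ⊓ O ⊓ Γ.QQ y : Subgroup G) ≤ Nat.card (Z ⊓ Γ.QQ y ⊓ Γ.KK O p : Subgroup G) :=
    two_mul_le' (fun x hx => ⟨⟨hx.1.1, hx.2⟩, O_le_KK hx.1.2⟩) (x := s) ⟨⟨hs, hsy⟩, hsp⟩ fun h' => hsO h'.1.2
  have h5 := h.one hpZ hp hp'
  have hpos : 0 < Nat.card (Z ⊓ O ⊓ Γ.QQ z ⊓ Γ.QQ y : Subgroup G) := Nat.card_pos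
  rw [h1] at h3
  rw [h2] at h4
  rw [h0] at h5
  generalize Nat.card (Z ⊓ Γ.QQ z ⊓ Γ.KK O p : Subgroup G) = a at *
  generalize Nat.card (Z ⊓ Γ.QQ y ⊓ Γ.KK O p : Subgroup G) = b at *
  generalize Nat.card (Z ⊓ O ⊓ Γ.QQ z ⊓ Γ.QQ y : Subgroup G) = w at *
  have h6 := Nat.mul_le_mul h3 h4
  nlinarith only [hpos, h5, h6]

/-- **Case B.** -/
theorem caseB (hB : ¬ Z ⊓ Γ.QQ z ≤ O) : False := by
  have B := h.F.basic
  have A := h.F.ark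
  obtain ⟨s₁, ⟨hs₁, hs₁z⟩, hs₁O⟩ := Set.not_subset.1 hB
  obtain ⟨s₂, ⟨hs₂, hs₂y⟩, hs₂O⟩ := Set.not_subset.1 (h.symm_ne hB)
  have k1 : s₁ ∈ Γ.KK O z := KK_of' (h.cent hs₁ hs₁z) hs₁z
  have k2 : s₂ ∈ Γ.KK O y := KK_of' (h.symm.cent hs₂ hs₂y) hs₂y
  obtain ⟨V₁, hV₁, hVO₁, hV₁1, hV₁2, hV₁3⟩ := exists_V B A h.hO hs₁O
  obtain ⟨V₂, hV₂, hVO₂, hV₂1, hV₂2, hV₂3⟩ := exists_V B A h.hO hs₂O
  have c1 : Nat.card V₁ = 32 := by
    rw [ncard_eq V₁ hV₁]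
    exact V_card' B A h.hO h.z_mem h.hz.pt k1 (h.S.sq _ hs₁) hs₁O
  have c2 : Nat.card V₂ = 32 := by
    rw [ncard_eq V₂ hV₂]
    exact V_card' B A h.hO h.y_mem h.hy.pt k2 (h.S.sq _ hs₂) hs₂O
  have d1 : Nat.card V₁ ≤ 2 * Nat.card (V₁ ⊓ Γ.QQ y : Subgroup G) := by
    apply le_two
    intro a ha b hb ha' hb'
    rw [inv_eq A h.hO (hVO₁ ha)]
    exact mul_mem_QQ A h.hO h.y_mem h.hy.pt (hVO₁ ha) (hVO₁ hb) ha' hb'
  obtain ⟨p', hpE', hpZ', hpO', hpP', hsp'⟩ := h.exists_p hs₁ hs₁O (E := V₁ ⊓ Γ.QQ y) (fun x hx => hVO₁ hx.1)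
    (fun v hv => hV₁1 v hv.1) (by
      intro t ht a ha
      refine ⟨?_, h.QQ_inv h.hy.mem h.hy.pt ht ha.2⟩
      show t * a * t⁻¹ ∈ V₁
      rw [hV₁]
      exact norm_Vs B A h.hO (h.norm ht) (h.S.comm _ hs₁ t ht) ((hV₁ a).1 ha.1)) (by omega)
  have d2 : Nat.card V₂ ≤ 2 * Nat.card (V₂ ⊓ Γ.QQ z : Subgroup G) := by
    apply le_two
    intro a ha b hb ha' hb'
    rw [inv_eq A h.hO (hVO₂ ha)]
    exact mul_mem_QQ A h.hO h.z_mem h.hz.pt (hVO₂ ha) (hVO₂ hb) ha' hb'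
  have d3 : Nat.card (V₂ ⊓ Γ.QQ z : Subgroup G) ≤ 2 * Nat.card (V₂ ⊓ Γ.QQ z ⊓ Γ.QQ p' : Subgroup G) := by
    apply le_two
    intro a ha b hb ha' hb'
    rw [inv_eq A h.hO (hVO₂ ha.1)]
    exact mul_mem_QQ A h.hO hpO' hpP' (hVO₂ ha.1) (hVO₂ hb.1) ha' hb'
  obtain ⟨p, hpE, hpZ, hpO, hpP, hsp⟩ := h.exists_p hs₂ hs₂O (E := V₂ ⊓ Γ.QQ z ⊓ Γ.QQ p') (fun x hx => hVO₂ hx.1.1)
    (fun v hv => hV₂1 v hv.1.1) (by
      intro t ht a ha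
      refine ⟨⟨?_, h.QQ_inv h.hz.mem h.hz.pt ht ha.1.2⟩, h.QQ_inv hpZ' hpP' ht ha.2⟩
      show t * a * t⁻¹ ∈ V₂
      rw [hV₂]
      exact norm_Vs B A h.hO (h.norm ht) (h.S.comm _ hs₂ t ht) ((hV₂ a).1 ha.1.1)) (by omega)
  have hyV₂ : y ∈ V₂ := hV₂2 y h.y_mem h.hy.pt k2
  have hzV₁ : z ∈ V₁ := hV₁2 z h.z_mem h.hz.pt k1
  have hpy : p ∈ Γ.QQ y := hV₂3 y hyV₂ (B.pt_ne y h.hy.pt) p hpE.1.1
  have hpz' : p' ∈ Γ.QQ z := hV₁3 z hzV₁ (B.pt_ne z h.hz.pt) p' hpE'.1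
  have n1 : s₁ ∉ Γ.KK O p := h.seven hs₁ hs₁z hs₁O hs₂ hs₂y hs₂O hpZ hpO hpP hsp
  have n2 : s₂ ∉ Γ.KK O p' := h.symm.seven hs₂ hs₂y hs₂O hs₁ hs₁z hs₁O hpZ' hpO' hpP' hsp'
  have u1 : s₁ * s₂ ∈ Γ.KK O (z * p) := h.key hs₂ hs₂y hs₂O hpO hpP hpE.1.2 hsp hs₁ hs₁z n1
  have u2 : s₂ * s₁ ∈ Γ.KK O (y * p') := h.symm.key hs₁ hs₁z hs₁O hpO' hpP' hpE'.2 hsp' hs₂ hs₂y n2
  rw [h.S.ab s₂ hs₂ s₁ hs₁] at u2
  have z_ne : z ≠ p := by
    rintro rfl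
    exact n1 k1
  have y_ne : y ≠ p' := by
    rintro rfl
    exact n2 k2
  have hzp : z * p ∈ Γ.Pt := B.line z h.hz.pt p hpP z_ne hpE.1.2
  have hyp : y * p' ∈ Γ.Pt := B.line y h.hy.pt p' hpP' y_ne hpE'.2
  have hzpO : z * p ∈ O := O.mul_mem h.z_mem hpO
  have hypO : y * p' ∈ O := O.mul_mem h.y_mem hpO'
  have hopp : z * p ∉ Γ.QQ (y * p') := by
    rw [not_mem_QQ A h.hO hypO hyp hzpO, A.bet_mul O h.hO z h.z_mem p hpO _ hypO,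
      bet_mul_right A h.hO h.z_mem h.y_mem hpO', bet_mul_right A h.hO hpO h.y_mem hpO']
    have b1 : Γ.bet z y = 1 := (not_mem_QQ A h.hO h.y_mem h.hy.pt h.z_mem).1 h.yz
    have b2 : Γ.bet z p' = 0 := by
      rw [bet_symm A h.hO h.z_mem hpO']
      exact (A.bet_iff O h.hO z h.z_mem h.hz.pt p' hpO').1 hpz'
    have b3 : Γ.bet p y = 0 := (A.bet_iff O h.hO y h.y_mem h.hy.pt p hpO).1 hpy
    have b4 : Γ.bet p p' = 0 := (A.bet_iff O h.hO p' hpO' hpP' p hpO).1 hpE.2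
    rw [b1, b2, b3, b4]
    decide
  have hu : s₁ * s₂ ∈ O := KK_opp B A h.hO hypO hzpO hyp hzp hopp u2 u1
  apply hs₂O
  apply KK_opp B A h.hO h.z_mem h.y_mem h.hz.pt h.hy.pt h.zy _ k2
  have e : s₂ = s₁⁻¹ * (s₁ * s₂) := by group
  rw [e]
  exact Subgroup.mul_mem _ (Subgroup.inv_mem _ k1) (O_le_KK hu)

theorem main : Z ∈ Γ.Ark := by
  by_cases hB : Z ⊓ Γ.QQ z ≤ O
  · exact h.caseA hB
  · exact (h.caseB hB).elim

end Opp

end Cfsg.Agent.R2.M7.T0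
end

-- part: R2/M7/T1
section
/-!
# The main argument, second case (helper18, S5539)

`z`, `y` are points of `Z` which are not collinear, `O₁ = O(z, y)`, `O₂ = O(y, z)`, `y ∉ O₁`, `z ∉ O₂`.
-/

set_option autoImplicit false
set_option linter.unusedSectionVars false

namespace Cfsg.Agent.R2.M7.T1

open Geo Elem Ark T0

variable {G : Type*} [Group G] [Finite G] {Γ : Geo G}

/-- the situation of this file -/
structure Pre (Γ : Geo G) (T Z : Subgroup G) (z y : G) (O₁ O₂ : Subgroup G) : Prop where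
  F : Γ.Facts
  S : Γ.Sit T Z
  hz : _root_.Cfsg.Agent.R2.M7.T0.Max Γ Z z
  hy : _root_.Cfsg.Agent.R2.M7.T0.Max Γ Z y
  zy : y ∉ Γ.QQ z
  hO₁ : O₁ ∈ Γ.Ark
  hO₂ : O₂ ∈ Γ.Ark
  z_mem : z ∈ O₁
  y_mem : y ∈ O₂
  y_KK : y ∈ Γ.KK O₁ z
  z_KK : z ∈ Γ.KK O₂ y
  y_not : y ∉ O₁
  z_not : z ∉ O₂

namespace Pre

variable {T Z : Subgroup G} {z y : G} {O₁ O₂ : Subgroup G} (h : Pre Γ T Z z y O₁ O₂)
include h

theorem yz : z ∉ Γ.QQ y := fun h' => h.zy (h.F.basic.symm y h.hy.pt z h.hz.pt h')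

theorem symm : Pre Γ T Z y z O₂ O₁ :=
  ⟨h.F, h.S, h.hy, h.hz, h.yz, h.hO₂, h.hO₁, h.y_mem, h.z_mem, h.z_KK, h.y_KK, h.z_not, h.y_not⟩

/-- the common neighbours of `z` and `y` -/
theorem exists_V : ∃ V X : Subgroup G, (∀ v, v ∈ V ↔ v ∈ Γ.Vs O₁ y) ∧ X ≤ V ∧
    (∀ a ∈ V, ∀ b ∈ V, a ∉ X → b ∉ X → a⁻¹ * b ∈ X) ∧ Nat.card X = 16 ∧
    ∀ q, q ∈ X ↔ q = 1 ∨ (q ∈ Γ.Pt ∧ q ∈ Γ.QQ z ∧ q ∈ Γ.QQ y) := by
  have B := h.F.basic
  have A := h.F.ark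
  obtain ⟨V, hV, hVO, hV1, hV2, hV3⟩ := Ark.exists_V B A h.hO₁ h.y_not
  have hcard : Nat.card V = 32 := by
    rw [ncard_eq V hV]
    exact V_card' B A h.hO₁ h.z_mem h.hz.pt h.y_KK (h.S.sq y h.hy.mem) h.y_not
  obtain ⟨R, hR, hRV, hR2⟩ := exists_R B A h.hO₁ (s := y) hVO (fun q hq hq1 => (hV1 q hq hq1).1) hV3
    (fun q hq hq1 => (hV1 q hq hq1).2)
  have hzV : z ∈ V := hV2 z h.z_mem h.hz.pt h.y_KK
  have hzR : z ∉ R := by
    intro hcon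
    rcases ((hR z).1 hcon).2 with h1 | h1
    · exact B.pt_ne z h.hz.pt h1
    · exact h.zy h1
  have h1 := le_two hR2
  rw [inf_eq_right.2 hRV] at h1
  have h2 := two_mul_le' hRV hzV hzR
  refine ⟨V, R, hV, hRV, hR2, by omega, ?_⟩
  intro q
  rw [hR]
  constructor
  · rintro ⟨hq, hq'⟩
    by_cases hq1 : q = 1
    · exact Or.inl hq1
    · right
      have h3 := (hV1 q hq hq1).1
      exact ⟨h3, hV3 z hzV (B.pt_ne z h.hz.pt) q hq, B.symm q h3 y h.hy.pt (hq'.resolve_left hq1)⟩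
  · rintro (rfl | ⟨h3, h4, h5⟩)
    · exact ⟨V.one_mem, Or.inl rfl⟩
    · have h6 : y ∈ Γ.QQ q := B.symm y h.hy.pt q h3 h5
      have h7 : q ∈ O₁ := A.pt_mem O₁ h.hO₁ z h.z_mem h.hz.pt y h.y_KK h.zy q h3 h4 h6
      exact ⟨hV2 q h7 h3 (KK_of' (KK_le_CC A h.hO₁ h.y_KK) h6), Or.inr h6⟩

end Pre

/-- the situation of this file -/
structure Cfg (Γ : Geo G) (T Z : Subgroup G) (z y : G) (O₁ O₂ X : Subgroup G) : Prop extends
    Pre Γ T Z z y O₁ O₂ where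
  card_X : Nat.card X = 16
  X_iff : ∀ q, q ∈ X ↔ q = 1 ∨ (q ∈ Γ.Pt ∧ q ∈ Γ.QQ z ∧ q ∈ Γ.QQ y)

namespace Cfg

variable {T Z : Subgroup G} {z y : G} {O₁ O₂ X : Subgroup G} (h : Cfg Γ T Z z y O₁ O₂ X)
include h

theorem symm : Cfg Γ T Z y z O₂ O₁ X where
  toPre := h.toPre.symm
  card_X := h.card_X
  X_iff := by
    intro q
    rw [h.X_iff]
    (clear * -; tauto)

theorem X_pt {q : G} (hq : q ∈ X) (hq1 : q ≠ 1) : q ∈ Γ.Pt := (((h.X_iff q).1 hq).resolve_left hq1).1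

theorem X_z {q : G} (hq : q ∈ X) : q ∈ Γ.QQ z := by
  rcases (h.X_iff q).1 hq with rfl | h1
  · exact Subgroup.one_mem _
  · exact h1.2.1

theorem X_y {q : G} (hq : q ∈ X) : q ∈ Γ.QQ y := h.symm.X_z hq

theorem z_X {q : G} (hq : q ∈ X) (hq1 : q ≠ 1) : z ∈ Γ.QQ q :=
  h.F.basic.symm z h.hz.pt q (h.X_pt hq hq1) (h.X_z hq)

theorem y_X {q : G} (hq : q ∈ X) (hq1 : q ≠ 1) : y ∈ Γ.QQ q := h.symm.z_X hq hq1

theorem y_C : y ∈ CC O₁ := KK_le_CC h.F.ark h.hO₁ h.y_KK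

theorem z_C : z ∈ CC O₂ := h.symm.y_C

theorem X_le₁ : X ≤ O₁ := by
  intro q hq
  rcases (h.X_iff q).1 hq with rfl | ⟨h1, h2, h3⟩
  · exact O₁.one_mem
  · exact h.F.ark.pt_mem O₁ h.hO₁ z h.z_mem h.hz.pt y h.y_KK h.zy q h1 h2 (h.F.basic.symm y h.hy.pt q h1 h3)

theorem X_le₂ : X ≤ O₂ := h.symm.X_le₁

theorem X_coll {q : G} (hq : q ∈ X) (hq1 : q ≠ 1) {q' : G} (hq' : q' ∈ X) : q' ∈ Γ.QQ q := by
  by_cases hq1' : q' = 1
  · rw [hq1']; exact Subgroup.one_mem _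
  · exact coll_of_KK h.F.basic h.F.ark h.hO₁ (h.X_le₁ hq) (h.X_le₁ hq') (h.X_pt hq hq1) (h.X_pt hq' hq1')
      (KK_of' h.y_C (h.y_X hq hq1)) (KK_of' h.y_C (h.y_X hq' hq1')) h.y_not

theorem ne₁₂ : O₁ ≠ O₂ := fun h' => h.y_not (by rw [h']; exact h.y_mem)

theorem adj : Γ.Adj O₁ O₂ X := ⟨h.hO₁, h.hO₂, h.ne₁₂, h.X_le₁, h.X_le₂, h.card_X, fun _ hq hq1 => h.X_pt hq hq1⟩

/-- (J1) -/
theorem comm₁₂ {a b : G} (ha : a ∈ O₁) (hb : b ∈ O₂) : a * b = b * a := h.F.two.comm O₁ O₂ X h.adj a ha b hb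

theorem cent₁ {x : G} (hx : x ∈ Z) (hxz : x ∈ Γ.QQ z) : x ∈ CC O₁ :=
  h.F.ark.cent_le O₁ h.hO₁ z h.z_mem h.hz.pt y h.y_KK h.zy x hxz (h.S.ab x hx y h.hy.mem)

theorem norm₁ {g : G} (hgz : g * z = z * g) (hgy : g * y = y * g) : cj g O₁ = O₁ :=
  norm_of h.F.basic h.F.ark h.hO₁ h.z_mem h.hz.pt h.y_KK h.zy hgz hgy

theorem norm₁T {t : G} (ht : t ∈ T) : cj t O₁ = O₁ := h.norm₁ (h.S.comm z h.hz.mem t ht) (h.S.comm y h.hy.mem t ht)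

/-- (J2') -/
theorem J2 {s q : G} (hsz : s ∈ Γ.QQ z) (hs₁ : s ∈ CC O₁) (hs₂ : s ∈ CC O₂) (hq : q ∈ X) (hq1 : q ≠ 1) :
    s ∈ Γ.KK O₁ q := by
  have B := h.F.basic
  have A := h.F.ark
  have hqp := h.X_pt hq hq1
  obtain ⟨r, hr, a, ha, b, hb, rfl⟩ := h.F.two.cent O₁ O₂ X h.adj q hq hq1 s hs₁ hs₂
  have hqz : z ≠ q := by
    rintro rfl
    exact h.yz (h.X_y hq)
  -- we may assume `a ∈ QQ z`
  have key : ∀ r a : G, r ∈ Γ.QQ q → a ∈ O₁ → a ∈ Γ.QQ z → r * a * b ∈ Γ.QQ z → r * a * b ∈ CC O₁ →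
      r * a * b ∈ CC O₂ → r * a * b ∈ Γ.KK O₁ q := by
    intro r a hr ha haz h1 h2 h3
    have hab := h.comm₁₂ ha hb
    have e : r * a * b = r * b * a := by rw [mul_assoc, hab, mul_assoc]
    rw [e] at h1 h2 h3 ⊢
    have haC : a ∈ CC O₁ := O_le_CC A h.hO₁ ha
    have haC₂ : a ∈ CC O₂ := mem_CC.2 fun c hc => (h.comm₁₂ ha hc).symm
    have k1 : r * b ∈ CC O₁ := (Subgroup.mul_mem_cancel_right _ haC).1 h2
    have k2 : r * b ∈ CC O₂ := (Subgroup.mul_mem_cancel_right _ haC₂).1 h3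
    have k3 : r * b ∈ Γ.QQ z := (Subgroup.mul_mem_cancel_right _ haz).1 h1
    by_cases hbq : b ∈ Γ.QQ q
    · exact KK_of k1 (Subgroup.mul_mem _ hr hbq) ha
    · exfalso
      apply h.z_not
      have hrC : r ∈ CC O₂ := (Subgroup.mul_mem_cancel_right _ (O_le_CC A h.hO₂ hb)).1 k2
      refine A.pt_mem O₂ h.hO₂ q (h.X_le₂ hq) hqp (r * b) (KK_of hrC hr hb) ?_ z h.hz.pt (h.z_X hq hq1) k3
      intro h'
      exact hbq ((Subgroup.mul_mem_cancel_left _ hr).1 h')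
  by_cases haz : a ∈ Γ.QQ z
  · exact key r a hr ha haz hsz hs₁ hs₂
  · obtain ⟨c, hc, hcq, hcz⟩ := exists_sep A h.hO₁ h.z_mem (h.X_le₁ hq) (B.pt_ne z h.hz.pt) hqz
    have hcz' : c ∉ Γ.QQ z := (not_mem_QQ A h.hO₁ h.z_mem h.hz.pt hc).2 hcz
    have hcq' : c ∈ Γ.QQ q := (A.bet_iff O₁ h.hO₁ q (h.X_le₁ hq) hqp c hc).2 hcq
    have e : r * a * b = r * c * (c * a) * b := by
      calc r * a * b = r * (c * c) * a * b := by rw [A.sq O₁ h.hO₁ c hc, mul_one]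
        _ = _ := by group
    rw [e] at hsz hs₁ hs₂ ⊢
    exact key (r * c) (c * a) (Subgroup.mul_mem _ hr hcq') (O₁.mul_mem hc ha)
      (mul_mem_QQ A h.hO₁ h.z_mem h.hz.pt hc ha hcz' haz) hsz hs₁ hs₂

/-- `Z_z ∩ Z_y ≤ QQ q` -/
theorem DQ {s q : G} (hs : s ∈ Z) (hsz : s ∈ Γ.QQ z) (hsy : s ∈ Γ.QQ y) (hq : q ∈ X) (hq1 : q ≠ 1) : s ∈ Γ.QQ q := by
  by_contra hcon
  have h1 := h.cent₁ hs hsz
  have h2 := h.symm.cent₁ hs hsy
  exact h.ne₁₂ (h.F.ark.unique O₁ h.hO₁ O₂ h.hO₂ q (h.X_pt hq hq1) (h.X_le₁ hq) (h.X_le₂ hq) s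
    (h.J2 hsz h1 h2 hq hq1) (h.symm.J2 hsy h2 h1 hq hq1) hcon)

theorem X_inv {t q : G} (htz : t * z = z * t) (hty : t * y = y * t) (hq : q ∈ X) : t * q * t⁻¹ ∈ X := by
  have B := h.F.basic
  rw [h.X_iff]
  rcases (h.X_iff q).1 hq with rfl | ⟨h1, h2, h3⟩
  · left; group
  · exact Or.inr ⟨B.pt_conj q h1 t, QQ_norm B h.hz.pt htz h2, QQ_norm B h.hy.pt hty h3⟩

theorem X_invT {t q : G} (ht : t ∈ T) (hq : q ∈ X) : t * q * t⁻¹ ∈ X :=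
  h.X_inv (h.S.comm z h.hz.mem t ht) (h.S.comm y h.hy.mem t ht) hq

/-- (M) -/
theorem M {p : G} (hp : p ∈ X) (hpZ : p ∈ Z) (hp1 : p ≠ 1) : ∃ t ∈ Z, t ∈ Γ.QQ z ∧ t ∉ Γ.QQ p := by
  by_contra hcon
  push Not at hcon
  have h1 := two_mul_le' (A := Z ⊓ Γ.QQ z) (B := Z ⊓ Γ.QQ p) (fun x hx => ⟨hx.1, hcon x hx.1 hx.2⟩) (x := y)
    ⟨h.hy.mem, h.y_X hp hp1⟩ fun h' => h.zy h'.2
  have h2 := h.hz.le p hpZ (h.X_pt hp hp1)
  have h3 : 0 < Nat.card (Z ⊓ Γ.QQ z : Subgroup G) := Nat.card_pos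
  omega

/-- `E_s` -/
theorem exists_E {s : G} (hs : s ∈ Z) (hsz : s ∈ Γ.QQ z) : ∃ E : Subgroup G,
    (∀ q, q ∈ E ↔ q ∈ X ∧ (q = 1 ∨ s ∈ Γ.KK O₁ q)) ∧ 4 ≤ Nat.card E := by
  have B := h.F.basic
  have A := h.F.ark
  by_cases hsO : s ∈ O₁
  · refine ⟨X, ?_, by rw [h.card_X]; norm_num⟩
    intro q
    constructor
    · exact fun hq => ⟨hq, Or.inr (O_le_KK hsO)⟩
    · exact fun hq => hq.1
  · obtain ⟨V, hV, hVO, hV1, hV2, hV3⟩ := Ark.exists_V B A h.hO₁ hsO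
    have hsC := h.cent₁ hs hsz
    have hmem : ∀ q, q ∈ V ⊓ X ↔ q ∈ X ∧ (q = 1 ∨ s ∈ Γ.KK O₁ q) := by
      intro q
      constructor
      · rintro ⟨hq, hq'⟩
        refine ⟨hq', ?_⟩
        by_cases hq1 : q = 1
        · exact Or.inl hq1
        · exact Or.inr (hV1 q hq hq1).2
      · rintro ⟨hq, hq'⟩
        refine ⟨?_, hq⟩
        by_cases hq1 : q = 1
        · rw [hq1]; exact V.one_mem
        · exact hV2 q (h.X_le₁ hq) (h.X_pt hq hq1) (hq'.resolve_left hq1)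
    obtain ⟨W, X', hW, hXW, hX2, -, hX'⟩ := h.toPre.exists_V
    have hXX : X' = X := by
      ext q
      rw [hX', h.X_iff]
    subst hXX
    refine ⟨V ⊓ X', hmem, ?_⟩
    by_cases hsy : s * y ∈ O₁
    · have h1 : Γ.Vs O₁ s = Γ.Vs O₁ y := by
        have e : s = y * (s * y) := by
          have h2 := h.S.ab s hs y h.hy.mem
          calc s = s * (y * y) := by rw [h.S.sq y h.hy.mem, mul_one]
            _ = (s * y) * y := by group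
            _ = (y * s) * y := by rw [h2]
            _ = y * (s * y) := by group
        conv_lhs => rw [e]
        exact Vs_mul A h.hO₁ hsy
      have h2 : X' ≤ V := by
        intro q hq
        rw [hV, h1, ← hW]
        exact hXW hq
      rw [inf_eq_right.2 h2, h.card_X]
      norm_num
    · have h1 := V_inter' B A h.hO₁ h.z_mem h.hz.pt (KK_of' hsC hsz) (h.S.sq s hs) hsO h.y_KK (h.S.sq y h.hy.mem) h.y_not
        (h.S.ab s hs y h.hy.mem) hsy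
      have h2 : 8 ≤ Nat.card (V ⊓ W : Subgroup G) := by
        rw [ncard_eq (V ⊓ W) (S := Γ.Vs O₁ s ∩ Γ.Vs O₁ y)]
        · exact h1
        · intro v
          rw [Subgroup.mem_inf, hV, hW]
          rfl
      have h3 : Nat.card (V ⊓ W : Subgroup G) ≤ 2 * Nat.card (V ⊓ W ⊓ X' : Subgroup G) := by
        apply le_two
        intro a ha b hb ha' hb'
        exact hX2 a ha.2 b hb.2 ha' hb'
      have h4 : Nat.card (V ⊓ W ⊓ X' : Subgroup G) ≤ Nat.card (V ⊓ X' : Subgroup G) :=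
        card_le (inf_le_inf_right _ inf_le_left)
      omega

/-- (4) -/
theorem exists_p {s : G} (hs : s ∈ Z) (hsz : s ∈ Γ.QQ z) :
    ∃ p ∈ X, p ≠ 1 ∧ p ∈ Z ∧ s ∈ Γ.KK O₁ p ∧ s ∈ Γ.QQ p := by
  have B := h.F.basic
  have A := h.F.ark
  obtain ⟨E, hE, hEc⟩ := h.exists_E hs hsz
  have hEX : E ≤ X := fun q hq => ((hE q).1 hq).1
  have hEK : ∀ q ∈ E, q ≠ 1 → s ∈ Γ.KK O₁ q := fun q hq hq1 => ((hE q).1 hq).2.resolve_left hq1
  obtain ⟨R, hR, hRE, hR2⟩ := exists_R B A h.hO₁ (s := s) (X := E) (hEX.trans h.X_le₁)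
    (fun q hq hq1 => h.X_pt (hEX hq) hq1) (fun q hq hq1 q' hq' => h.X_coll (hEX hq) hq1 (hEX hq')) hEK
  have h1 := le_two hR2
  rw [inf_eq_right.2 hRE] at h1
  obtain ⟨p, hp, hp1, hpZ⟩ := fix h.S (E := R) (fun a ha => A.sq O₁ h.hO₁ a (h.X_le₁ (hEX (hRE ha)))) (by omega) (by
    intro t ht a ha
    have hts := h.S.comm s hs t ht
    have es : t * s * t⁻¹ = s := by rw [hts]; group
    rw [hR]
    have ha' := (hR a).1 ha
    refine ⟨?_, ?_⟩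
    · rw [hE]
      refine ⟨h.X_invT ht (hEX ha'.1), ?_⟩
      by_cases ha1 : a = 1
      · left; rw [ha1]; group
      · exact Or.inr (norm_KK B A h.hO₁ (h.norm₁T ht) (h.X_pt (hEX ha'.1) ha1) (hEK a ha'.1 ha1) hts)
    · by_cases ha1 : a = 1
      · left; rw [ha1]; group
      · right
        have h2 := B.QQ_conj a (h.X_pt (hEX ha'.1) ha1) t s (ha'.2.resolve_left ha1)
        rwa [es] at h2)
  exact ⟨p, hEX (hRE hp), hp1, hpZ, hEK p (hRE hp) hp1, ((hR p).1 hp).2.resolve_left hp1⟩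

/-- (5) -/
theorem five : 8 * Nat.card (Z ⊓ Γ.QQ z ⊓ Γ.QQ y : Subgroup G) ≤ Nat.card (Z ⊓ Γ.QQ z : Subgroup G) := by
  have B := h.F.basic
  have A := h.F.ark
  obtain ⟨D₁, hD₁, hDD₁, hzD₁, hc1, hc1'⟩ := exists_adj (D := Z ⊓ Γ.QQ z ⊓ Γ.QQ y) (x := z) (h.S.sq z h.hz.mem)
    (fun a ha => h.S.ab z h.hz.mem a ha.1.1)
  have hc1'' := hc1' fun h' => h.yz h'.2
  have hD₁z : D₁ ≤ Z ⊓ Γ.QQ z := by
    intro a ha
    rcases (hD₁ a).1 ha with h1 | h1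
    · exact h1.1
    · exact (Subgroup.mul_mem_cancel_left _ (⟨h.hz.mem, B.QQ_self z h.hz.pt⟩ : z ∈ Z ⊓ Γ.QQ z)).1 h1.1
  have hD₁p : ∀ p ∈ X, p ≠ 1 → D₁ ≤ Γ.QQ p := by
    intro p hp hp1 a ha
    rcases (hD₁ a).1 ha with h1 | h1
    · exact h.DQ h1.1.1 h1.1.2 h1.2 hp hp1
    · exact (Subgroup.mul_mem_cancel_left _ (h.z_X hp hp1)).1 (h.DQ h1.1.1 h1.1.2 h1.2 hp hp1)
  have hyD : ∀ D' : Subgroup G, D₁ ≤ D' → D' ≤ Z ⊓ Γ.QQ z → ∀ p ∈ X, p ≠ 1 → p ∈ Z → D' ≤ Γ.QQ p →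
      2 * Nat.card D' ≤ Nat.card (Z ⊓ Γ.QQ z : Subgroup G) := by
    intro D' _ h2 p hp hp1 hpZ h3
    obtain ⟨D₂, hD₂, hDD₂, hyD₂, hc2, hc2'⟩ := exists_adj (D := D') (x := y) (h.S.sq y h.hy.mem)
      (fun a ha => h.S.ab y h.hy.mem a (h2 ha).1)
    have h4 := hc2' fun h' => h.zy (h2 h').2
    have h5 : D₂ ≤ Z ⊓ Γ.QQ p := by
      intro a ha
      rcases (hD₂ a).1 ha with h6 | h6
      · exact ⟨(h2 h6).1, h3 h6⟩
      · exact (Subgroup.mul_mem_cancel_left _ (⟨h.hy.mem, h.y_X hp hp1⟩ : y ∈ Z ⊓ Γ.QQ p)).1 ⟨(h2 h6).1, h3 h6⟩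
    have h6 := card_le h5
    have h7 := h.hz.le p hpZ (h.X_pt hp hp1)
    omega
  obtain ⟨p, hp, hp1, hpZ, -⟩ := h.exists_p h.hz.mem (B.QQ_self z h.hz.pt)
  have h1 := hyD D₁ le_rfl hD₁z p hp hp1 hpZ (hD₁p p hp hp1)
  have hpos : 0 < Nat.card (Z ⊓ Γ.QQ z ⊓ Γ.QQ y : Subgroup G) := Nat.card_pos
  have hne : ¬ Z ⊓ Γ.QQ z ≤ D₁ := by
    intro h'
    have := card_le h'
    omega
  obtain ⟨s, hs, hsD⟩ := Set.not_subset.1 hne
  obtain ⟨p', hp', hp1', hpZ', -, hsp'⟩ := h.exists_p hs.1 hs.2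
  obtain ⟨D₂, hD₂, hDD₂, hsD₂, hc2, hc2'⟩ := exists_adj (D := D₁) (x := s) (h.S.sq s hs.1)
    (fun a ha => h.S.ab s hs.1 a (hD₁z ha).1)
  have h2 := hc2' hsD
  have h3 := hyD D₂ hDD₂ (by
    intro a ha
    rcases (hD₂ a).1 ha with h6 | h6
    · exact hD₁z h6
    · exact (Subgroup.mul_mem_cancel_left _ hs).1 (hD₁z h6)) p' hp' hp1' hpZ' (by
    intro a ha
    rcases (hD₂ a).1 ha with h6 | h6
    · exact hD₁p p' hp' hp1' h6
    · exact (Subgroup.mul_mem_cancel_left _ hsp').1 (hD₁p p' hp' hp1' h6))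
  omega

/-- (6) -/
theorem six {p : G} (hp : p ∈ X) (hpZ : p ∈ Z) (hp1 : p ≠ 1) (h1 : ∀ s ∈ Z, s ∈ Γ.QQ z → s ∈ Γ.KK O₁ p)
    (h2 : ∀ s ∈ Z, s ∈ Γ.QQ y → s ∈ Γ.KK O₂ p) : False := by
  have B := h.F.basic
  have A := h.F.ark
  have hpp := h.X_pt hp hp1
  have k1 : Nat.card (Z ⊓ Γ.QQ z : Subgroup G) ≤ 2 * Nat.card (Z ⊓ Γ.QQ z ⊓ Γ.QQ p : Subgroup G) := by
    apply le_two
    intro a ha b hb ha' hb'
    exact KK_two A h.hO₁ (h.X_le₁ hp) hpp (h1 a ha.1 ha.2) (h1 b hb.1 hb.2) ha' hb'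
  have k2 : Nat.card (Z ⊓ Γ.QQ y : Subgroup G) ≤ 2 * Nat.card (Z ⊓ Γ.QQ y ⊓ Γ.QQ p : Subgroup G) := by
    apply le_two
    intro a ha b hb ha' hb'
    exact KK_two A h.hO₂ (h.X_le₂ hp) hpp (h2 a ha.1 ha.2) (h2 b hb.1 hb.2) ha' hb'
  have k3 : Nat.card (Z ⊓ Γ.QQ z ⊓ Γ.QQ p : Subgroup G) * Nat.card (Z ⊓ Γ.QQ y ⊓ Γ.QQ p : Subgroup G) ≤
      Nat.card (Z ⊓ Γ.QQ p : Subgroup G) *
        Nat.card ((Z ⊓ Γ.QQ z ⊓ Γ.QQ p) ⊓ (Z ⊓ Γ.QQ y ⊓ Γ.QQ p) : Subgroup G) :=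
    mul_le (inf_le_inf_right _ inf_le_left) (inf_le_inf_right _ inf_le_left)
  have k4 : Nat.card ((Z ⊓ Γ.QQ z ⊓ Γ.QQ p) ⊓ (Z ⊓ Γ.QQ y ⊓ Γ.QQ p) : Subgroup G) ≤
      Nat.card (Z ⊓ Γ.QQ z ⊓ Γ.QQ y : Subgroup G) := card_le fun x hx => ⟨hx.1.1, hx.2.1.2⟩
  have k5 := h.hz.le p hpZ hpp
  have k6 := h.five
  have k7 := h.hz.eq h.hy
  have hpos : 0 < Nat.card (Z ⊓ Γ.QQ z ⊓ Γ.QQ y : Subgroup G) := Nat.card_pos
  rw [← k7] at k2
  have k8 := Nat.mul_le_mul k5 k4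
  have k9 := k3.trans k8
  generalize Nat.card (Z ⊓ Γ.QQ z : Subgroup G) = m at *
  generalize Nat.card (Z ⊓ Γ.QQ z ⊓ Γ.QQ p : Subgroup G) = a at *
  generalize Nat.card (Z ⊓ Γ.QQ y ⊓ Γ.QQ p : Subgroup G) = b at *
  generalize Nat.card (Z ⊓ Γ.QQ z ⊓ Γ.QQ y : Subgroup G) = d at *
  have k10 : m * m ≤ 4 * (a * b) := by nlinarith only [k1, k2]
  have k11 : m * m ≤ m * (4 * d) := by linarith only [k3, k8, k10]
  have hm : 0 < m := by omega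
  have k12 := Nat.le_of_mul_le_mul_left k11 hm
  omega

/-- (8) -/
theorem eight : ∃ s ∈ Z, s ∈ Γ.QQ z ∧ s ∉ CC O₂ := by
  have B := h.F.basic
  have A := h.F.ark
  by_contra hcon
  push Not at hcon
  have h1 : ∀ s ∈ Z, s ∈ Γ.QQ z → ∀ q ∈ X, q ≠ 1 → s ∈ Γ.KK O₁ q := fun s hs hsz q hq hq1 =>
    h.J2 hsz (h.cent₁ hs hsz) (hcon s hs hsz) hq hq1
  by_cases h2 : ∀ s ∈ Z, s ∈ Γ.QQ y → s ∈ CC O₁
  · obtain ⟨p, hp, hp1, hpZ, -⟩ := h.exists_p h.hz.mem (B.QQ_self z h.hz.pt)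
    exact h.six hp hpZ hp1 (fun s hs hsz => h1 s hs hsz p hp hp1) fun s hs hsy =>
      h.symm.J2 hsy (h.symm.cent₁ hs hsy) (h2 s hs hsy) hp hp1
  · push Not at h2
    obtain ⟨s, hs, hsy, hsC⟩ := h2
    obtain ⟨p, hp, hp1, hpZ, -, hsp⟩ := h.symm.exists_p hs hsy
    obtain ⟨t, ht, htz, htp⟩ := h.M hp hpZ hp1
    exact hsC (A.cent_le O₁ h.hO₁ p (h.X_le₁ hp) (h.X_pt hp hp1) t (h1 t ht htz p hp hp1) htp s hsp
      (h.S.ab s hs t ht))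

/-! ### (9) -/

/-- the commutator -/
theorem com_mem {s u : G} (hs : s ∈ Z) (hu : u ∈ O₂) : s * u * s⁻¹ * u⁻¹ ∈ O₂ :=
  O₂.mul_mem (norm_mem h.F.ark h.hO₂ (h.symm.norm₁ (h.S.ab s hs y h.hy.mem) (h.S.ab s hs z h.hz.mem)) hu)
    (O₂.inv_mem hu)

theorem com_mul {s u v : G} (hs : s ∈ Z) (hu : u ∈ O₂) (hv : v ∈ O₂) :
    s * (u * v) * s⁻¹ * (u * v)⁻¹ = (s * u * s⁻¹ * u⁻¹) * (s * v * s⁻¹ * v⁻¹) := by
  have h1 := h.F.ark.comm O₂ h.hO₂ _ (h.com_mem hs hv) _ (O₂.inv_mem hu)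
  calc s * (u * v) * s⁻¹ * (u * v)⁻¹ = (s * u * s⁻¹) * ((s * v * s⁻¹ * v⁻¹) * u⁻¹) := by group
    _ = (s * u * s⁻¹) * (u⁻¹ * (s * v * s⁻¹ * v⁻¹)) := by rw [h1]
    _ = _ := by group

theorem com_q {s u q : G} (hq : q ∈ X) (hq1 : q ≠ 1) (hsq : s ∈ Γ.KK O₁ q) (hu : u ∈ O₂) (huq : u ∈ Γ.QQ q) :
    s * u * s⁻¹ * u⁻¹ = 1 ∨ s * u * s⁻¹ * u⁻¹ = q := by
  obtain ⟨r, hr, hr', a, ha, rfl⟩ := mem_KK hsq
  have h1 := h.comm₁₂ ha hu
  have e : r * a * u * (r * a)⁻¹ * u⁻¹ = r * u * r⁻¹ * u⁻¹ := by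
    calc r * a * u * (r * a)⁻¹ * u⁻¹ = r * (a * u) * a⁻¹ * r⁻¹ * u⁻¹ := by group
      _ = r * (u * a) * a⁻¹ * r⁻¹ * u⁻¹ := by rw [h1]
      _ = _ := by group
  rw [e]
  exact h.F.basic.QQ_der q (h.X_pt hq hq1) r hr' u huq

/-- the group `E_s` for `s ∈ Z_z ∖ CC O₂` -/
structure Es (Γ : Geo G) (O₁ O₂ X : Subgroup G) (s : G) (E : Subgroup G) : Prop where
  iff : ∀ q, q ∈ E ↔ q ∈ X ∧ (q = 1 ∨ s ∈ Γ.KK O₁ q)
  card : Nat.card E = 4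
  com : ∀ u ∈ O₂, s * u * s⁻¹ * u⁻¹ ∈ E
  orth : ∀ x ∈ O₂, s * x = x * s → ∀ q ∈ E, q ≠ 1 → x ∈ Γ.QQ q

/-- (9) -/
theorem nine {s : G} (hs : s ∈ Z) (hsz : s ∈ Γ.QQ z) (hsC : s ∉ CC O₂) : ∃ E, Es Γ O₁ O₂ X s E := by
  have B := h.F.basic
  have A := h.F.ark
  obtain ⟨E, hE, hEc⟩ := h.exists_E hs hsz
  have hEX : E ≤ X := fun q hq => ((hE q).1 hq).1
  have hEO : E ≤ O₂ := hEX.trans h.X_le₂
  have hEK : ∀ q ∈ E, q ≠ 1 → s ∈ Γ.KK O₁ q := fun q hq hq1 => ((hE q).1 hq).2.resolve_left hq1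
  have hsq : ∀ q ∈ E, q * q = 1 := fun q hq => A.sq O₂ h.hO₂ q (hEO hq)
  -- commutators
  have c1 : ∀ q ∈ E, q ≠ 1 → ∀ u ∈ O₂, u ∈ Γ.QQ q → s * u * s⁻¹ * u⁻¹ = 1 ∨ s * u * s⁻¹ * u⁻¹ = q :=
    fun q hq hq1 u hu huq => h.com_q (hEX hq) hq1 (hEK q hq hq1) hu huq
  have c2 : ∀ q ∈ E, q ≠ 1 → ∀ q' ∈ E, q' ≠ 1 → q ≠ q' → ∀ u ∈ O₂, ∃ u₁ ∈ O₂, u₁ ∈ Γ.QQ q ∧ ∃ u₂ ∈ O₂, u₂ ∈ Γ.QQ q' ∧
      s * u * s⁻¹ * u⁻¹ = (s * u₁ * s⁻¹ * u₁⁻¹) * (s * u₂ * s⁻¹ * u₂⁻¹) := by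
    intro q hq hq1 q' hq' hq1' hne u hu
    obtain ⟨u₁, hu₁, hu₁', u₂, hu₂, hu₂', rfl⟩ := exists_split A h.hO₂ (hEO hq) (hEO hq') (h.X_pt (hEX hq) hq1)
      (h.X_pt (hEX hq') hq1') hq1 hne hu
    exact ⟨u₁, hu₁, hu₁', u₂, hu₂, hu₂', h.com_mul hs hu₁ hu₂⟩
  have hmulne : ∀ a ∈ E, ∀ b ∈ E, a ≠ b → a * b ≠ 1 := by
    intro a ha b hb hab h'
    apply hab
    have : a = b⁻¹ := eq_inv_of_mul_eq_one_left h'
    rw [this]
    exact inv_eq_of_mul_eq_one_right (hsq b hb)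
  -- a nontrivial commutator
  obtain ⟨u, hu, hu1⟩ : ∃ u ∈ O₂, s * u * s⁻¹ * u⁻¹ ≠ 1 := by
    by_contra hcon
    push Not at hcon
    apply hsC
    rw [mem_CC]
    intro a ha
    have h1 := hcon a ha
    calc a * s = (s * a * s⁻¹ * a⁻¹) * a * s := by rw [h1, one_mul]
      _ = s * a := by group
  have hcomE : ∀ u ∈ O₂, s * u * s⁻¹ * u⁻¹ ∈ E := by
    intro u hu
    obtain ⟨q, hq, hq1⟩ := exists_ne_one (E := E) (by omega)
    have h2 : ∃ q' ∈ E, q' ≠ 1 ∧ q ≠ q' := by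
      by_contra hcon
      push Not at hcon
      obtain ⟨D, hD, -, -, hDc, -⟩ := exists_adj (D := (⊥ : Subgroup G)) (x := q) (hsq q hq) (by
        intro a ha
        rw [Subgroup.mem_bot.1 ha, mul_one, one_mul])
      have h3 : E ≤ D := by
        intro x hx
        rw [hD]
        by_cases hx1 : x = 1
        · left; rw [hx1]; exact Subgroup.one_mem _
        · right
          rw [← hcon x hx hx1, hsq q hq]
          exact Subgroup.one_mem _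
      have h4 := card_le h3
      rw [Subgroup.card_bot] at hDc
      omega
    obtain ⟨q', hq', hq1', hne⟩ := h2
    obtain ⟨u₁, hu₁, hu₁', u₂, hu₂, hu₂', h3⟩ := c2 q hq hq1 q' hq' hq1' hne u hu
    rw [h3]
    apply E.mul_mem
    · rcases c1 q hq hq1 u₁ hu₁ hu₁' with h4 | h4 <;> rw [h4]
      · exact E.one_mem
      · exact hq
    · rcases c1 q' hq' hq1' u₂ hu₂ hu₂' with h4 | h4 <;> rw [h4]
      · exact E.one_mem
      · exact hq'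
  obtain ⟨e, he⟩ : ∃ e, e = s * u * s⁻¹ * u⁻¹ := ⟨_, rfl⟩
  have heE : e ∈ E := by rw [he]; exact hcomE u hu
  have he1 : e ≠ 1 := by rw [he]; exact hu1
  rw [← he] at hu1
  -- all values
  have c3 : ∀ q ∈ E, q ≠ 1 → ∃ v ∈ O₂, s * v * s⁻¹ * v⁻¹ = q := by
    intro q hq hq1
    by_cases hqe : q = e
    · exact ⟨u, hu, by rw [hqe, he]⟩
    · have h1 := hmulne q hq e heE hqe
      have hne : q ≠ q * e := fun h' => he1 (by
        have h2 : q * 1 = q * e := by rw [mul_one]; exact h'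
        exact (mul_left_cancel h2).symm)
      obtain ⟨u₁, hu₁, hu₁', u₂, hu₂, hu₂', h3⟩ := c2 q hq hq1 (q * e) (E.mul_mem hq heE) h1 hne u hu
      rcases c1 q hq hq1 u₁ hu₁ hu₁' with h4 | h4
      · exfalso
        rw [← he, h4, one_mul] at h3
        rcases c1 (q * e) (E.mul_mem hq heE) h1 u₂ hu₂ hu₂' with h5 | h5
        · rw [h5] at h3; exact he1 h3
        · rw [h5] at h3
          apply hq1
          have h6 : q * e = 1 * e := by rw [one_mul]; exact h3.symm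
          exact mul_right_cancel h6
      · exact ⟨u₁, hu₁, h4⟩
  -- the order
  have hcard : Nat.card E ≤ 4 := by
    obtain ⟨D, hD, -, -, hDc, -⟩ := exists_adj (D := (⊥ : Subgroup G)) (x := e) (hsq e heE) (by
      intro a ha
      rw [Subgroup.mem_bot.1 ha, mul_one, one_mul])
    rw [Subgroup.card_bot] at hDc
    have hDE : D ≤ E := by
      intro a ha
      rcases (hD a).1 ha with h1 | h1
      · rw [Subgroup.mem_bot.1 h1]; exact E.one_mem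
      · exact (Subgroup.mul_mem_cancel_left _ heE).1 (by rw [Subgroup.mem_bot.1 h1]; exact E.one_mem)
    have h1 : Nat.card E ≤ 2 * Nat.card (E ⊓ D : Subgroup G) := by
      apply le_two
      intro a ha b hb ha' hb'
      by_contra hcon
      have ha1 : a ≠ 1 := fun h' => ha' (by rw [h']; exact D.one_mem)
      have hb1 : b ≠ 1 := fun h' => hb' (by rw [h']; exact D.one_mem)
      have hae : a ≠ e := fun h' => ha' (by rw [h', hD]; right; rw [hsq e heE]; exact Subgroup.one_mem _)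
      have hbe : b ≠ e := fun h' => hb' (by rw [h', hD]; right; rw [hsq e heE]; exact Subgroup.one_mem _)
      have hinv : a⁻¹ = a := inv_eq_of_mul_eq_one_right (hsq a ha)
      rw [hinv, hD] at hcon
      push Not at hcon
      have hab : a ≠ b := by
        rintro rfl
        apply hcon.1
        rw [hsq a ha]
        exact Subgroup.one_mem _
      have habe : a * b ≠ e := by
        intro h'
        apply hcon.2
        rw [h', hsq e heE]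
        exact Subgroup.one_mem _
      obtain ⟨u₁, hu₁, hu₁', u₂, hu₂, hu₂', h3⟩ := c2 a ha ha1 b hb hb1 hab u hu
      rw [← he] at h3
      rcases c1 a ha ha1 u₁ hu₁ hu₁' with h4 | h4 <;> rcases c1 b hb hb1 u₂ hu₂ hu₂' with h5 | h5 <;> rw [h4, h5] at h3
      · rw [one_mul] at h3; exact he1 h3
      · rw [one_mul] at h3; exact hbe h3.symm
      · rw [mul_one] at h3; exact hae h3.symm
      · exact habe h3.symm
    rw [inf_eq_right.2 hDE] at h1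
    omega
  refine ⟨E, hE, le_antisymm hcard hEc, hcomE, ?_⟩
  intro x hx hsx q hq hq1
  obtain ⟨v, hv, rfl⟩ := c3 q hq hq1
  have hqp := h.X_pt (hEX hq) hq1
  have hn : s * v * s⁻¹ ∈ O₂ := norm_mem A h.hO₂ (h.symm.norm₁ (h.S.ab s hs y h.hy.mem) (h.S.ab s hs z h.hz.mem)) hv
  have e1 : s * x * s⁻¹ = x := by rw [hsx]; group
  have h1 : Γ.bet x (s * v * s⁻¹) = Γ.bet x v := by
    conv_lhs => rw [← e1]
    exact bet_conj B x v s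
  rw [A.bet_iff O₂ h.hO₂ _ (hEO hq) hqp x hx, bet_mul_right A h.hO₂ hx hn (O₂.inv_mem hv), inv_eq A h.hO₂ hv, h1,
    add_self]

/-- (10) -/
theorem ten {s : G} (hs : s ∈ Z) {E : Subgroup G} (hE : Es Γ O₁ O₂ X s E) {s' : G}
    (hs' : s' ∈ Z) (hsy' : s' ∈ Γ.QQ y) : ∃ q ∈ E, q ≠ 1 ∧ s' ∈ Γ.KK O₂ q := by
  have B := h.F.basic
  have A := h.F.ark
  have hEX : E ≤ X := fun q hq => ((hE.iff q).1 hq).1
  have hEO : E ≤ O₂ := hEX.trans h.X_le₂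
  by_cases hsO : s' ∈ O₂
  · obtain ⟨q, hq, hq1⟩ := exists_ne_one (E := E) (by rw [hE.card]; norm_num)
    exact ⟨q, hq, hq1, O_le_KK hsO⟩
  by_contra hcon
  push Not at hcon
  obtain ⟨V, hV, hVO, hV1, hV2, hV3⟩ := Ark.exists_V B A h.hO₂ hsO
  have hsC := h.symm.cent₁ hs' hsy'
  have hVc : Nat.card V = 32 := by
    rw [ncard_eq V hV]
    exact V_card' B A h.hO₂ h.y_mem h.hy.pt (KK_of' hsC hsy') (h.S.sq s' hs') hsO
  have hVE : ∀ v ∈ V, v ∈ E → v = 1 := by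
    intro v hv hvE
    by_contra hv1
    exact hcon v hvE hv1 (hV1 v hv hv1).2
  have hnorm := h.symm.norm₁ (h.S.ab s hs y h.hy.mem) (h.S.ab s hs z h.hz.mem)
  have hcomm : ∀ v ∈ V, s * v = v * s := by
    intro v hv
    have h1 : s * v * s⁻¹ ∈ V := by
      rw [hV]
      exact norm_Vs B A h.hO₂ hnorm (h.S.ab s hs s' hs') ((hV v).1 hv)
    have h2 := hVE _ (V.mul_mem h1 (V.inv_mem hv)) (hE.com v (hVO hv))
    calc s * v = (s * v * s⁻¹ * v⁻¹) * v * s := by group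
      _ = v * s := by rw [h2, one_mul]
  have hperp : ∀ v ∈ V, ∀ q ∈ E, q ≠ 1 → v ∈ Γ.QQ q := fun v hv q hq hq1 => hE.orth v (hVO hv) (hcomm v hv) q hq hq1
  have h1 : Nat.card (V ⊔ E : Subgroup G) ≤ 32 := by
    apply A.ts_card O₂ h.hO₂ _ (sup_le hVO hEO)
    intro x hx hx1
    obtain ⟨v, hv, q, hq, rfl⟩ := Elem.mem_sup (fun a ha b hb => A.comm O₂ h.hO₂ a (hVO ha) b (hEO hb)) hx
    by_cases hq1 : q = 1
    · subst hq1
      rw [mul_one] at hx1 ⊢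
      exact (hV1 v hv hx1).1
    · by_cases hv1 : v = 1
      · subst hv1
        rw [one_mul] at hx1 ⊢
        exact h.X_pt (hEX hq) hx1
      · rw [A.comm O₂ h.hO₂ v (hVO hv) q (hEO hq)] at hx1 ⊢
        exact (line_mem B (h.X_pt (hEX hq) hq1) (hV1 v hv hv1).1 (hperp v hv q hq hq1)).resolve_left hx1
  have h2 : Nat.card V * Nat.card E ≤ Nat.card (V ⊔ E : Subgroup G) * Nat.card (V ⊓ E : Subgroup G) :=
    mul_le le_sup_left le_sup_right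
  have h3 : V ⊓ E = ⊥ := by
    rw [Subgroup.eq_bot_iff_forall]
    exact fun x hx => hVE x hx.1 hx.2
  rw [h3, Subgroup.card_bot, hVc, hE.card] at h2
  omega

/-- (11) -/
theorem eleven {s : G} (hs : s ∈ Z) (hsz : s ∈ Γ.QQ z) (hsC : s ∉ CC O₂) {E : Subgroup G} (hE : Es Γ O₁ O₂ X s E) :
    ∃ l ∈ E, l ≠ 1 ∧ ∀ s' ∈ Z, s' ∈ Γ.QQ y → s' ∈ Γ.KK O₂ l := by
  have B := h.F.basic
  have A := h.F.ark
  have hEX : E ≤ X := fun q hq => ((hE.iff q).1 hq).1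
  have hEO : E ≤ O₂ := hEX.trans h.X_le₂
  obtain ⟨p, hp, hp1, hpZ, hsKp, hsp⟩ := h.exists_p hs hsz
  have hpE : p ∈ E := (hE.iff p).2 ⟨hp, Or.inr hsKp⟩
  have hpp := h.X_pt hp hp1
  -- the index of `Z_y ∩ QQ p` in `Z_y`
  have k1 : 4 * Nat.card (Z ⊓ Γ.QQ y ⊓ Γ.QQ p : Subgroup G) ≤ Nat.card (Z ⊓ Γ.QQ y : Subgroup G) := by
    obtain ⟨D₁, hD₁, hDD₁, hzD₁, -, hc1⟩ := exists_adj (D := Z ⊓ Γ.QQ y ⊓ Γ.QQ p) (x := z) (h.S.sq z h.hz.mem)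
      (fun a ha => h.S.ab z h.hz.mem a ha.1.1)
    have hc1' := hc1 fun h' => h.yz h'.1.2
    have hD₁p : D₁ ≤ Z ⊓ Γ.QQ p := by
      intro a ha
      rcases (hD₁ a).1 ha with h1 | h1
      · exact ⟨h1.1.1, h1.2⟩
      · exact (Subgroup.mul_mem_cancel_left _ (⟨h.hz.mem, h.z_X hp hp1⟩ : z ∈ Z ⊓ Γ.QQ p)).1 ⟨h1.1.1, h1.2⟩
    obtain ⟨D₂, hD₂, hDD₂, hsD₂, -, hc2⟩ := exists_adj (D := D₁) (x := s) (h.S.sq s hs)
      (fun a ha => h.S.ab s hs a (hD₁p ha).1)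
    have hc2' := hc2 (by
      intro h'
      apply hsC
      rcases (hD₁ s).1 h' with h1 | h1
      · exact h.symm.cent₁ h1.1.1 h1.1.2
      · exact (Subgroup.mul_mem_cancel_left _ h.z_C).1 (h.symm.cent₁ h1.1.1 h1.1.2))
    have hD₂p : D₂ ≤ Z ⊓ Γ.QQ p := by
      intro a ha
      rcases (hD₂ a).1 ha with h1 | h1
      · exact hD₁p h1
      · exact (Subgroup.mul_mem_cancel_left _ (⟨hs, hsp⟩ : s ∈ Z ⊓ Γ.QQ p)).1 (hD₁p h1)
    have h1 := card_le hD₂p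
    have h2 := h.hy.le p hpZ hpp
    omega
  have k2 : Z ⊓ Γ.QQ y ⊓ Γ.KK O₂ p ≤ Z ⊓ Γ.QQ y ⊓ Γ.QQ p := by
    intro t ht
    refine ⟨ht.1, ?_⟩
    by_contra htp
    exact hsC (A.cent_le O₂ h.hO₂ p (h.X_le₂ hp) hpp t ht.2 htp s hsp (h.S.ab s hs t ht.1.1))
  have k3 := card_le k2
  -- another element of `E`
  obtain ⟨l, hl, hl1, hpl⟩ : ∃ l ∈ E, l ≠ 1 ∧ p ≠ l := by
    by_contra hcon
    push Not at hcon
    have hp2 : p * p = 1 := A.sq O₂ h.hO₂ p (hEO hpE)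
    obtain ⟨D, hD, -, -, hDc, -⟩ := exists_adj (D := (⊥ : Subgroup G)) (x := p) hp2 (by
      intro a ha
      rw [Subgroup.mem_bot.1 ha, mul_one, one_mul])
    have h3 : E ≤ D := by
      intro x hx
      rw [hD]
      by_cases hx1 : x = 1
      · left; rw [hx1]; exact Subgroup.one_mem _
      · right
        rw [← hcon x hx hx1, hp2]
        exact Subgroup.one_mem _
    have h4 := card_le h3
    rw [Subgroup.card_bot] at hDc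
    rw [hE.card] at h4
    omega
  have hplne : p * l ≠ 1 := by
    intro h'
    apply hpl
    rw [eq_inv_of_mul_eq_one_left h']
    exact inv_eq A h.hO₂ (hEO hl)
  have h4 := four_elts (le_of_eq hE.card) hpE hl hp1 hl1 hpl hplne
  have h5 := cover (S := Z ⊓ Γ.QQ y) (A := Γ.KK O₂ l) (B := Γ.KK O₂ (p * l)) (C := Γ.KK O₂ p) (by
    intro x hx
    obtain ⟨q, hq, hq1, hxq⟩ := h.ten hs hE hx.1 hx.2
    rcases h4 q hq with h6 | h6 | h6 | h6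
    · exact absurd h6 hq1
    · subst h6; exact Or.inr (Or.inr hxq)
    · subst h6; exact Or.inl hxq
    · subst h6; exact Or.inr (Or.inl hxq)) (by omega)
  rcases h5 with h5 | h5
  · exact ⟨l, hl, hl1, fun s' hs' hsy' => h5 ⟨hs', hsy'⟩⟩
  · exact ⟨p * l, E.mul_mem hpE hl, hplne, fun s' hs' hsy' => h5 ⟨hs', hsy'⟩⟩

/-- the group `F_z` -/
theorem exists_F : ∃ Fz : Subgroup G, ∀ q, q ∈ Fz ↔ q ∈ X ∧ (q = 1 ∨ ∀ s ∈ Z, s ∈ Γ.QQ z → s ∈ Γ.KK O₁ q) := by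
  have B := h.F.basic
  have A := h.F.ark
  let K : Subgroup G := {
    carrier := {q | q ∈ X ∧ (q = 1 ∨ ∀ s ∈ Z, s ∈ Γ.QQ z → s ∈ Γ.KK O₁ q)}
    one_mem' := ⟨X.one_mem, Or.inl rfl⟩
    mul_mem' := by
      rintro a b ⟨ha, ha'⟩ ⟨hb, hb'⟩
      refine ⟨X.mul_mem ha hb, ?_⟩
      by_cases ha1 : a = 1
      · subst ha1; rw [one_mul]; exact hb'
      by_cases hb1 : b = 1
      · subst hb1; rw [mul_one]; exact ha'
      by_cases hab : a = b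
      · left; rw [hab]; exact A.sq O₁ h.hO₁ b (h.X_le₁ hb)
      · right
        intro s hs hsz
        exact KK_mul B A h.hO₁ (h.X_le₁ ha) (h.X_le₁ hb) (h.X_pt ha ha1) (h.X_pt hb hb1) hab (h.X_coll ha ha1 hb)
          (ha'.resolve_left ha1 s hs hsz) (hb'.resolve_left hb1 s hs hsz)
    inv_mem' := by
      rintro a ⟨ha, ha'⟩
      refine ⟨X.inv_mem ha, ?_⟩
      rw [inv_eq A h.hO₁ (h.X_le₁ ha)]
      exact ha' }
  exact ⟨K, fun q => Iff.rfl⟩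

/-- (12), first part -/
theorem disj {q : G} (hq : q ∈ X) (hq1 : q ≠ 1) (h1 : ∀ s ∈ Z, s ∈ Γ.QQ z → s ∈ Γ.KK O₁ q)
    (h2 : ∀ s ∈ Z, s ∈ Γ.QQ y → s ∈ Γ.KK O₂ q) : False := by
  have B := h.F.basic
  have A := h.F.ark
  obtain ⟨Fz, hFz⟩ := h.exists_F
  obtain ⟨Fy, hFy⟩ := h.symm.exists_F
  have hq' : q ∈ Fz ⊓ Fy := ⟨(hFz q).2 ⟨hq, Or.inr h1⟩, (hFy q).2 ⟨hq, Or.inr h2⟩⟩
  obtain ⟨p, hp, hp1, hpT⟩ := fixed h.S.two (E := Fz ⊓ Fy)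
    (fun a ha => A.sq O₁ h.hO₁ a (h.X_le₁ ((hFz a).1 ha.1).1)) hq' hq1 (by
      intro t ht a ha
      obtain ⟨ha1, ha2⟩ := ha
      replace ha1 := (hFz a).1 ha1
      replace ha2 := (hFy a).1 ha2
      have hX := h.X_invT ht ha1.1
      by_cases ha' : a = 1
      · rw [ha', mul_one, mul_inv_cancel]
        exact Subgroup.one_mem _
      · have hap := h.X_pt ha1.1 ha'
        refine ⟨(hFz _).2 ⟨hX, Or.inr ?_⟩, (hFy _).2 ⟨hX, Or.inr ?_⟩⟩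
        · intro s hs hsz
          exact norm_KK B A h.hO₁ (h.norm₁T ht) hap (ha1.2.resolve_left ha' s hs hsz) (h.S.comm s hs t ht)
        · intro s hs hsz
          exact norm_KK B A h.hO₂ (h.symm.norm₁T ht) hap (ha2.2.resolve_left ha' s hs hsz) (h.S.comm s hs t ht))
  have k1 := (hFz p).1 hp.1
  have k2 := (hFy p).1 hp.2
  exact h.six k1.1 (h.S.all p (A.sq O₁ h.hO₁ p (h.X_le₁ k1.1)) hpT) hp1 (k1.2.resolve_left hp1) (k2.2.resolve_left hp1)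

/-- (12), second part: `|F_y| = 2` -/
theorem twelve : ∃ f ∈ X, f ≠ 1 ∧ (∀ s ∈ Z, s ∈ Γ.QQ y → s ∈ Γ.KK O₂ f) ∧
    ∀ f' ∈ X, f' ≠ 1 → (∀ s ∈ Z, s ∈ Γ.QQ y → s ∈ Γ.KK O₂ f') → f' = f := by
  have A := h.F.ark
  obtain ⟨s, hs, hsz, hsC⟩ := h.eight
  obtain ⟨E, hE⟩ := h.nine hs hsz hsC
  obtain ⟨f, hf, hf1, hfy⟩ := h.eleven hs hsz hsC hE
  obtain ⟨s', hs', hsy', hsC'⟩ := h.symm.eight
  obtain ⟨E', hE'⟩ := h.symm.nine hs' hsy' hsC'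
  obtain ⟨g, hg, hg1, hgz⟩ := h.symm.eleven hs' hsy' hsC' hE'
  have hfX := ((hE.iff f).1 hf).1
  have hgX := ((hE'.iff g).1 hg).1
  have hfE' : f ∈ E' := (hE'.iff f).2 ⟨hfX, Or.inr (hfy s' hs' hsy')⟩
  have hfg : f ≠ g := by
    rintro rfl
    exact h.disj hfX hf1 hgz hfy
  have hfg1 : f * g ≠ 1 := by
    intro h'
    apply hfg
    rw [eq_inv_of_mul_eq_one_left h']
    exact inv_eq A h.hO₁ (h.X_le₁ hgX)
  have h4 := four_elts (le_of_eq hE'.card) hfE' hg hf1 hg1 hfg hfg1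
  refine ⟨f, hfX, hf1, hfy, ?_⟩
  intro f' hf' hf1' hfy'
  have hfE'' : f' ∈ E' := (hE'.iff f').2 ⟨hf', Or.inr (hfy' s' hs' hsy')⟩
  rcases h4 f' hfE'' with h5 | h5 | h5 | h5
  · exact absurd h5 hf1'
  · exact h5
  · exfalso
    rw [h5] at hfy'
    exact h.disj hgX hg1 hgz hfy'
  · exfalso
    obtain ⟨Fy, hFy⟩ := h.symm.exists_F
    have k1 : f ∈ Fy := (hFy f).2 ⟨hfX, Or.inr hfy⟩
    have k2 : f' ∈ Fy := (hFy f').2 ⟨hf', Or.inr hfy'⟩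
    have k3 : g ∈ Fy := by
      rw [h5] at k2
      exact (Subgroup.mul_mem_cancel_left _ k1).1 k2
    exact h.disj hgX hg1 hgz (((hFy g).1 k3).2.resolve_left hg1)

/-- the contradiction -/
theorem false : False := by
  have A := h.F.ark
  obtain ⟨f, hf, hf1, hfy, huniq⟩ := h.twelve
  apply h.disj hf hf1 _ hfy
  intro s hs hsz
  by_cases hsC : s ∈ CC O₂
  · exact h.J2 hsz (h.cent₁ hs hsz) hsC hf hf1
  · obtain ⟨E, hE⟩ := h.nine hs hsz hsC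
    obtain ⟨l, hl, hl1, hly⟩ := h.eleven hs hsz hsC hE
    have hlE := (hE.iff l).1 hl
    have h1 := huniq l hlE.1 hl1 hly
    rw [← h1]
    exact hlE.2.resolve_left hl1

end Cfg

end Cfsg.Agent.R2.M7.T1
end

-- part: R2/M7/MainC
section
/-!
# The main claim (helper18, S5539)
-/

set_option autoImplicit false
set_option linter.unusedSectionVars false

namespace Cfsg.Agent.R2.M7.MainCP

open Geo Elem Ark T0 T1

variable {G : Type*} [Group G] [Finite G] {Γ : Geo G}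

theorem exists_max {T Z : Subgroup G} (S : Γ.Sit T Z) : ∃ z, _root_.Cfsg.Agent.R2.M7.T0.Max Γ Z z := by
  obtain ⟨x, hx, hx'⟩ := S.pt
  obtain ⟨z, hz, hz'⟩ := Set.exists_max_image {x | x ∈ Z ∧ x ∈ Γ.Pt} (fun x => Nat.card (Z ⊓ Γ.QQ x : Subgroup G))
    (Set.toFinite _) ⟨x, hx, hx'⟩
  exact ⟨z, hz.1, hz.2, fun x hx hx' => hz' x ⟨hx, hx'⟩⟩

/-- conjugation preserves the maximal points -/
theorem conj_max (B : Γ.Basic) {Z : Subgroup G} {z g : G} (hz : _root_.Cfsg.Agent.R2.M7.T0.Max Γ Z z) (hg : ∀ x ∈ Z, g * x * g⁻¹ ∈ Z) :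
    _root_.Cfsg.Agent.R2.M7.T0.Max Γ Z (g * z * g⁻¹) := by
  refine ⟨hg z hz.mem, B.pt_conj z hz.pt g, ?_⟩
  have h1 : Nat.card (Z ⊓ Γ.QQ z : Subgroup G) ≤ Nat.card (Z ⊓ Γ.QQ (g * z * g⁻¹) : Subgroup G) := by
    apply Nat.card_le_card_of_injective
      (fun x : (Z ⊓ Γ.QQ z : Subgroup G) => (⟨g * x * g⁻¹, hg x x.2.1, B.QQ_conj z hz.pt g x x.2.2⟩ :
        (Z ⊓ Γ.QQ (g * z * g⁻¹) : Subgroup G)))
    intro a b hab
    have h2 := congrArg Subtype.val hab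
    exact Subtype.ext (mul_left_cancel (mul_right_cancel h2))
  exact fun x hx hx' => (hz.le x hx hx').trans h1

/-- the glue -/
theorem glue (B : Γ.Basic) {T Z : Subgroup G} (S : Γ.Sit T Z) (hcol : ∀ z y, _root_.Cfsg.Agent.R2.M7.T0.Max Γ Z z → _root_.Cfsg.Agent.R2.M7.T0.Max Γ Z y → y ∈ Γ.QQ z) :
    ∃ F : Subgroup G, F ≠ ⊥ ∧ F ≤ Z ∧ Γ.Sing F ∧ ∀ g : G, (∀ x ∈ Z, g * x * g⁻¹ ∈ Z) → ∀ x ∈ F, g * x * g⁻¹ ∈ F := by
  have hP : ∀ x ∈ Subgroup.closure {z | _root_.Cfsg.Agent.R2.M7.T0.Max Γ Z z}, x = 1 ∨ (x ∈ Γ.Pt ∧ ∀ v, _root_.Cfsg.Agent.R2.M7.T0.Max Γ Z v → v ∈ Γ.QQ x) := by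
    intro x hx
    have step : ∀ v, _root_.Cfsg.Agent.R2.M7.T0.Max Γ Z v → ∀ x, (x = 1 ∨ (x ∈ Γ.Pt ∧ ∀ v, _root_.Cfsg.Agent.R2.M7.T0.Max Γ Z v → v ∈ Γ.QQ x)) →
        (v * x = 1 ∨ (v * x ∈ Γ.Pt ∧ ∀ w, _root_.Cfsg.Agent.R2.M7.T0.Max Γ Z w → w ∈ Γ.QQ (v * x))) := by
      rintro v hv x (rfl | ⟨hx, hx'⟩)
      · right
        rw [mul_one]
        exact ⟨hv.pt, fun w hw => hcol v w hv hw⟩
      · by_cases h1 : v = x
        · left; rw [h1]; exact B.pt_sq x hx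
        · right
          have h2 : x ∈ Γ.QQ v := B.symm x hx v hv.pt (hx' v hv)
          exact ⟨B.line v hv.pt x hx h1 h2, fun w hw => B.line_inf v hv.pt x hx h1 h2 w (hcol v w hv hw) (hx' w hw)⟩
    induction hx using Subgroup.closure_induction_left with
    | one => exact Or.inl rfl
    | mul_left v hv x _ ih => exact step v hv x ih
    | inv_mul_cancel v hv x _ ih =>
      have h1 : v⁻¹ = v := inv_eq_of_mul_eq_one_right (S.sq v (hv : _root_.Cfsg.Agent.R2.M7.T0.Max Γ Z v).mem)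
      rw [h1]
      exact step v hv x ih
  obtain ⟨z, hz⟩ := exists_max S
  refine ⟨Subgroup.closure {z | _root_.Cfsg.Agent.R2.M7.T0.Max Γ Z z}, ?_, ?_, ⟨?_, ?_⟩, ?_⟩
  · intro h
    have h1 : z ∈ Subgroup.closure {z | _root_.Cfsg.Agent.R2.M7.T0.Max Γ Z z} := Subgroup.subset_closure hz
    rw [h] at h1
    exact B.pt_ne z hz.pt (Subgroup.mem_bot.1 h1)
  · rw [Subgroup.closure_le]
    exact fun v hv => (hv : _root_.Cfsg.Agent.R2.M7.T0.Max Γ Z v).mem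
  · exact fun x hx hx1 => ((hP x hx).resolve_left hx1).1
  · intro x hx hx1 y hy
    have h1 : Subgroup.closure {z | _root_.Cfsg.Agent.R2.M7.T0.Max Γ Z z} ≤ Γ.QQ x := by
      rw [Subgroup.closure_le]
      exact fun v hv => ((hP x hx).resolve_left hx1).2 v hv
    exact h1 hy
  · intro g hg x hx
    have h1 : Subgroup.closure {z | _root_.Cfsg.Agent.R2.M7.T0.Max Γ Z z} ≤ (Subgroup.closure {z | _root_.Cfsg.Agent.R2.M7.T0.Max Γ Z z}).comap (MulAut.conj g).toMonoidHom := by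
      rw [Subgroup.closure_le]
      intro v hv
      show g * v * g⁻¹ ∈ Subgroup.closure {z | _root_.Cfsg.Agent.R2.M7.T0.Max Γ Z z}
      exact Subgroup.subset_closure (conj_max B hv hg)
    exact h1 hx

/-- **The main claim.** -/
theorem mainC (F : Γ.Facts) : Γ.MainC := by
  intro T Z S
  have B := F.basic
  by_cases hcol : ∀ z y, _root_.Cfsg.Agent.R2.M7.T0.Max Γ Z z → _root_.Cfsg.Agent.R2.M7.T0.Max Γ Z y → y ∈ Γ.QQ z
  · exact Or.inr (glue B S hcol)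
  · left
    push Not at hcol
    obtain ⟨z, y, hz, hy, hzy⟩ := hcol
    have hyz : z ∉ Γ.QQ y := fun h' => hzy (B.symm y hy.pt z hz.pt h')
    obtain ⟨O₁, hO₁, hzO₁, hyK⟩ := typeO F S hz hy.mem hzy
    obtain ⟨O₂, hO₂, hyO₂, hzK⟩ := typeO F S hy hz.mem hyz
    by_cases h1 : y ∈ O₁
    · exact Opp.main ⟨F, S, hz, hy, hzy, hO₁, hzO₁, h1⟩
    by_cases h2 : z ∈ O₂
    · exact Opp.main ⟨F, S, hy, hz, hyz, hO₂, hyO₂, h2⟩
    exfalso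
    have P : Pre Γ T Z z y O₁ O₂ := ⟨F, S, hz, hy, hzy, hO₁, hO₂, hzO₁, hyO₂, hyK, hzK, h1, h2⟩
    obtain ⟨V, X, -, -, -, hX, hX'⟩ := P.exists_V
    exact Cfg.false ⟨P, hX, hX'⟩

end Cfsg.Agent.R2.M7.MainCP
end
end
end
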